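import Mathlib
import Cfsg.Prelude.Def_Characters
import Cfsg.Prelude.Def_Classical
import Cfsg.Prelude.Def_ClassicalGeometry
import Cfsg.Agent.Lib.Helper2.HypExt3
import Cfsg.Agent.Lib.Helper2.LongRoot9
import Cfsg.Agent.Lib.Helper4.SLMin.Defs

set_option autoImplicit false

/-!
# Minimal degrees of `Ω^±_{2n}(q)` (S2346, S2345): definitions

For a quadratic form `Q` on `ι → F`:
* `eichMat Q u y` is the matrix of the Eichler (Siegel) transformation
  `x ↦ x + f(u,x) y - f(y,x) u - Q(y) f(u,x) u` (`f` the polar form); it is an isometry when `Q u = 0`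
  and `f(u,y) = 0`; `eich hQ u y` is this isometry (and `1` when the side conditions fail).
For `W : QuadraticForm F (κ → F)` and `V = HQ W` (`HypExt.HQ`, index `Fin 2 ⊕ κ`, `x₀ x₁ + W(tl x)`),
with `e = mk3 1 0 0`, `f = mk3 0 1 0`:
* `qe hW w = eich _ e (mk3 0 0 w)` is the Siegel radical of the stabiliser of `<e>` (`≅ (κ → F, +)`),
  `qf hW w = eich _ f (mk3 0 0 w)` the opposite one;
* `jO W : O(W) →* O(HQ W)`, `g ↦ diag(1,1,g)`;
* `psiU ψ0 W u` is the additive character `w ↦ ψ0 (f_W(u,w))` of `κ → F`.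
-/

namespace Cfsg.Agent.Lib.Helper2.OmMin

open Matrix Cfsg Cfsg.Agent.Lib.Helper2.HypExt Cfsg.Agent.Lib.Helper2.Siegel
open Cfsg.Agent.Lib.Helper2.ReflGen Cfsg.Agent.Lib.Helper2.CDG

universe u

variable {F : Type u} [Field F] {ι : Type} [Fintype ι] [DecidableEq ι]

/-- the matrix of the Eichler transformation `E_{u,y}` -/
def eichMat (Q : QuadraticForm F (ι → F)) (u y : ι → F) : Matrix ι ι F :=
  1 + Matrix.vecMulVec y (Cfsg.polarVec (⇑Q) u) - Matrix.vecMulVec u (Cfsg.polarVec (⇑Q) y)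
    - Q y • Matrix.vecMulVec u (Cfsg.polarVec (⇑Q) u)

theorem eichMat_mulVec (Q : QuadraticForm F (ι → F)) (u y x : ι → F) :
    eichMat Q u y *ᵥ x = x + QuadraticMap.polar (⇑Q) u x • y - QuadraticMap.polar (⇑Q) y x • u
      - (Q y * QuadraticMap.polar (⇑Q) u x) • u := by
  unfold eichMat
  rw [Matrix.sub_mulVec, Matrix.sub_mulVec, Matrix.add_mulVec, Matrix.one_mulVec,
    Matrix.smul_mulVec, vecMulVec_polarVec_mulVec, vecMulVec_polarVec_mulVec,
    vecMulVec_polarVec_mulVec, smul_smul]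

theorem eichMat_preserves (Q : QuadraticForm F (ι → F)) (u y : ι → F) (hu : Q u = 0)
    (huy : QuadraticMap.polar (⇑Q) u y = 0) (x : ι → F) : Q (eichMat Q u y *ᵥ x) = Q x := by
  have huu : QuadraticMap.polar (⇑Q) u u = 0 := by
    rw [ReflGen.polar_self, hu, mul_zero]
  have hyu : QuadraticMap.polar (⇑Q) y u = 0 := by rw [QuadraticMap.polar_comm]; exact huy
  set a := QuadraticMap.polar (⇑Q) u x with ha
  set b := QuadraticMap.polar (⇑Q) y x with hb
  have e : eichMat Q u y *ᵥ x = (x + a • y) + (-(b + Q y * a)) • u := by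
    rw [eichMat_mulVec]
    module
  rw [e, ReflGen.map_add_smul, hu, ReflGen.map_add_smul, QuadraticMap.polar_add_left,
    QuadraticMap.polar_smul_left, hyu, QuadraticMap.polar_comm (⇑Q) x u,
    QuadraticMap.polar_comm (⇑Q) x y, ← ha, ← hb]
  simp only [smul_eq_mul]
  ring

/-- the Eichler transformation `E_{u,y}` as an isometry (`1` if `Q u ≠ 0` or `f(u,y) ≠ 0`) -/
noncomputable def eich {Q : QuadraticForm F (ι → F)} (hQ : (QuadraticMap.polarBilin Q).Nondegenerate)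
    (u y : ι → F) : ↥(Cfsg.isometryGroup F ⇑Q) := by
  classical
  exact if h : Q u = 0 ∧ QuadraticMap.polar (⇑Q) u y = 0 then
    mkIso hQ (eichMat Q u y) (eichMat_preserves Q u y h.1 h.2) else 1

theorem eich_coe {Q : QuadraticForm F (ι → F)} (hQ : (QuadraticMap.polarBilin Q).Nondegenerate)
    {u y : ι → F} (hu : Q u = 0) (huy : QuadraticMap.polar (⇑Q) u y = 0) :
    ((eich hQ u y : Matrix.GeneralLinearGroup ι F) : Matrix ι ι F) = eichMat Q u y := by
  unfold eich
  rw [dif_pos ⟨hu, huy⟩]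
  rfl

theorem eich_mulVec {Q : QuadraticForm F (ι → F)} (hQ : (QuadraticMap.polarBilin Q).Nondegenerate)
    {u y : ι → F} (hu : Q u = 0) (huy : QuadraticMap.polar (⇑Q) u y = 0) (x : ι → F) :
    ((eich hQ u y : Matrix.GeneralLinearGroup ι F) : Matrix ι ι F) *ᵥ x =
      x + QuadraticMap.polar (⇑Q) u x • y - QuadraticMap.polar (⇑Q) y x • u
        - (Q y * QuadraticMap.polar (⇑Q) u x) • u := by
  rw [eich_coe hQ hu huy, eichMat_mulVec]

/-- the additive character `w ↦ ψ0 (f(u,w))` of `ι → F` -/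
noncomputable def psiU (ψ0 : AddChar F ℂ) (Q : QuadraticForm F (ι → F)) (u : ι → F) :
    AddChar (ι → F) ℂ where
  toFun w := ψ0 (QuadraticMap.polar (⇑Q) u w)
  map_zero_eq_one' := by rw [QuadraticMap.polar_zero_right, AddChar.map_zero_eq_one]
  map_add_eq_mul' a b := by rw [QuadraticMap.polar_add_right, AddChar.map_add_eq_mul]

theorem psiU_apply (ψ0 : AddChar F ℂ) (Q : QuadraticForm F (ι → F)) (u w : ι → F) :
    psiU ψ0 Q u w = ψ0 (QuadraticMap.polar (⇑Q) u w) := rfl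

variable {κ : Type} [Fintype κ] [DecidableEq κ]

/-- the Siegel radical of the stabiliser of `<e>`, `e = mk3 1 0 0`, in `O(HQ W)` -/
noncomputable def qe {W : QuadraticForm F (κ → F)} (hW : (QuadraticMap.polarBilin W).Nondegenerate)
    (w : κ → F) : ↥(Cfsg.isometryGroup F ⇑(HQ W)) :=
  eich (HQ_nondeg W hW) (mk3 1 0 0) (mk3 0 0 w)

/-- the opposite Siegel radical (stabiliser of `<f>`, `f = mk3 0 1 0`) -/
noncomputable def qf {W : QuadraticForm F (κ → F)} (hW : (QuadraticMap.polarBilin W).Nondegenerate)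
    (w : κ → F) : ↥(Cfsg.isometryGroup F ⇑(HQ W)) :=
  eich (HQ_nondeg W hW) (mk3 0 1 0) (mk3 0 0 w)

/-- `g ↦ diag(1,1,g)` : `O(W) →* O(HQ W)` -/
noncomputable def jO (W : QuadraticForm F (κ → F)) :
    ↥(Cfsg.isometryGroup F ⇑W) →* ↥(Cfsg.isometryGroup F ⇑(HQ W)) where
  toFun g := ⟨⟨emb ((g : Matrix.GeneralLinearGroup κ F) : Matrix κ κ F),
      emb (((g⁻¹ : ↥(Cfsg.isometryGroup F ⇑W)) : Matrix.GeneralLinearGroup κ F) : Matrix κ κ F),
      by
        unfold emb
        rw [Matrix.fromBlocks_multiply]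
        simp only [mul_one, Matrix.zero_mul, Matrix.mul_zero, add_zero, zero_add]
        have : ((g : Matrix.GeneralLinearGroup κ F) : Matrix κ κ F) *
            (((g⁻¹ : ↥(Cfsg.isometryGroup F ⇑W)) : Matrix.GeneralLinearGroup κ F) : Matrix κ κ F) = 1 := by
          rw [← Units.val_mul, ← Subgroup.coe_mul, mul_inv_cancel]
          rfl
        rw [this, Matrix.fromBlocks_one],
      by
        unfold emb
        rw [Matrix.fromBlocks_multiply]
        simp only [mul_one, Matrix.zero_mul, Matrix.mul_zero, add_zero, zero_add]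
        have : (((g⁻¹ : ↥(Cfsg.isometryGroup F ⇑W)) : Matrix.GeneralLinearGroup κ F) : Matrix κ κ F) *
            ((g : Matrix.GeneralLinearGroup κ F) : Matrix κ κ F) = 1 := by
          rw [← Units.val_mul, ← Subgroup.coe_mul, inv_mul_cancel]
          rfl
        rw [this, Matrix.fromBlocks_one]⟩,
    fun v _ => emb_preserves W _ (fun w => g.2 w w) v⟩
  map_one' := by
    apply Subtype.ext
    apply Units.ext
    show emb (1 : Matrix κ κ F) = 1
    unfold emb
    exact Matrix.fromBlocks_one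
  map_mul' a b := by
    apply Subtype.ext
    apply Units.ext
    show emb (((a : Matrix.GeneralLinearGroup κ F) : Matrix κ κ F) *
      ((b : Matrix.GeneralLinearGroup κ F) : Matrix κ κ F)) = emb _ * emb _
    unfold emb
    rw [Matrix.fromBlocks_multiply]
    simp

theorem jO_coe (W : QuadraticForm F (κ → F)) (g : ↥(Cfsg.isometryGroup F ⇑W)) :
    ((jO W g : Matrix.GeneralLinearGroup (Fin 2 ⊕ κ) F) : Matrix (Fin 2 ⊕ κ) (Fin 2 ⊕ κ) F) =
      emb ((g : Matrix.GeneralLinearGroup κ F) : Matrix κ κ F) := rfl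


/-- `jO` restricted to the commutator subgroups: `Ω(W) →* Ω(HQ W)` -/
noncomputable def jΩ (W : QuadraticForm F (κ → F)) :
    ↥(Cfsg.Omega F ⇑W) →* ↥(Cfsg.Omega F ⇑(HQ W)) :=
  ((jO W).comp (Cfsg.Omega F ⇑W).subtype).codRestrict (Cfsg.Omega F ⇑(HQ W)) (by
    intro g
    have h1 : (g : ↥(Cfsg.isometryGroup F ⇑W)) ∈ commutator ↥(Cfsg.isometryGroup F ⇑W) := g.2
    have h2 : jO W (g : ↥(Cfsg.isometryGroup F ⇑W)) ∈
        (commutator ↥(Cfsg.isometryGroup F ⇑W)).map (jO W) := Subgroup.mem_map_of_mem _ h1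
    rw [commutator_def, Subgroup.map_commutator] at h2
    show jO W (g : ↥(Cfsg.isometryGroup F ⇑W)) ∈ commutator ↥(Cfsg.isometryGroup F ⇑(HQ W))
    rw [commutator_def]
    exact Subgroup.commutator_mono le_top le_top h2)

theorem jΩ_coe (W : QuadraticForm F (κ → F)) (g : ↥(Cfsg.Omega F ⇑W)) :
    ((jΩ W g : ↥(Cfsg.Omega F ⇑(HQ W))) : ↥(Cfsg.isometryGroup F ⇑(HQ W))) =
      jO W (g : ↥(Cfsg.isometryGroup F ⇑W)) := rfl

/-- `qe` as an element of `Ω(HQ W)` (it does lie there when `3 ≤ |κ|`; `1` otherwise) -/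
noncomputable def qeΩ {W : QuadraticForm F (κ → F)} (hW : (QuadraticMap.polarBilin W).Nondegenerate)
    (w : κ → F) : ↥(Cfsg.Omega F ⇑(HQ W)) := by
  classical
  exact if h : qe hW w ∈ Cfsg.Omega F ⇑(HQ W) then ⟨qe hW w, h⟩ else 1

/-- `qf` as an element of `Ω(HQ W)` -/
noncomputable def qfΩ {W : QuadraticForm F (κ → F)} (hW : (QuadraticMap.polarBilin W).Nondegenerate)
    (w : κ → F) : ↥(Cfsg.Omega F ⇑(HQ W)) := by
  classical
  exact if h : qf hW w ∈ Cfsg.Omega F ⇑(HQ W) then ⟨qf hW w, h⟩ else 1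

/-- the standard long root element `E_{e, h}` of `Ω(HQ (HQ W₂))`, `h` the first hyperbolic vector
of `HQ W₂` -/
noncomputable def lrΩ {W₂ : QuadraticForm F (κ → F)}
    (hW₂ : (QuadraticMap.polarBilin W₂).Nondegenerate) : ↥(Cfsg.Omega F ⇑(HQ (HQ W₂))) :=
  qeΩ (HQ_nondeg W₂ hW₂) (mk3 1 0 0)

/-- the full bound for `Ω(HQ (HQ W₂))`: every irreducible representation in which the long root
element acts nontrivially has degree `≥ D` -/
def Full {W₂ : QuadraticForm F (κ → F)} (hW₂ : (QuadraticMap.polarBilin W₂).Nondegenerate)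
    (D : ℕ) : Prop :=
  ∀ (k : ℕ) (σ : Representation ℂ ↥(Cfsg.Omega F ⇑(HQ (HQ W₂))) (Fin k → ℂ)), σ.IsIrreducible →
    σ (lrΩ hW₂) ≠ 1 → D ≤ k

/-- the induction hypothesis for `Ω(HQ (HQ W₂))`: the bound for the representations which moreover
have a nonzero vector fixed by the Siegel radical `qeΩ` -/
def IHyp {W₂ : QuadraticForm F (κ → F)} (hW₂ : (QuadraticMap.polarBilin W₂).Nondegenerate)
    (D : ℕ) : Prop :=
  ∀ (k : ℕ) (σ : Representation ℂ ↥(Cfsg.Omega F ⇑(HQ (HQ W₂))) (Fin k → ℂ)), σ.IsIrreducible →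
    σ (lrΩ hW₂) ≠ 1 →
    (∃ x : Fin k → ℂ, x ≠ 0 ∧ ∀ y : Fin 2 ⊕ κ → F, σ (qeΩ (HQ_nondeg W₂ hW₂) y) x = x) → D ≤ k

theorem Full.iHyp {W₂ : QuadraticForm F (κ → F)}
    {hW₂ : (QuadraticMap.polarBilin W₂).Nondegenerate} {D : ℕ} (h : Full hW₂ D) : IHyp hW₂ D :=
  fun k σ hσ hz _ => h k σ hσ hz

/-- the number of nonzero vectors of norm `c` -/
noncomputable def nrm [Fintype F] (Q : QuadraticForm F (ι → F)) (c : F) : ℕ :=
  Nat.card {v : ι → F // v ≠ 0 ∧ Q v = c}

end Cfsg.Agent.Lib.Helper2.OmMin
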