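import Mathlib
import Cfsg.Prelude.Def_Characters
import Cfsg.Agent.Lib.Helper2.OmMin.Defs
import Cfsg.Agent.Lib.Helper2.CDGen
import Cfsg.Agent.Lib.Helper3.OmMin_CHAR

/-!
# S2346: the additive automorphisms `x ↦ a • g x` and the transport of the characters `psiU`
-/

set_option autoImplicit false
set_option linter.unusedSectionVars false

namespace Cfsg.Agent.Lib.Helper2.OmMin

open Matrix Cfsg Cfsg.Agent.Lib.Helper2.HypExt Cfsg.Agent.Lib.Helper2.Siegel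
open Cfsg.Agent.Lib.Helper2.LongRoot Cfsg.Agent.Lib.Helper1.SUMin Cfsg.Agent.Lib.Helper4.SLMin
open Cfsg.Agent.Lib.Helper2.CDG
open scoped ComplexConjugate

universe u

section mv
variable {F : Type u} [Field F] {ι : Type} [Fintype ι] [DecidableEq ι]
variable {Q : QuadraticForm F (ι → F)}

theorem st_inv_mulVec (g : ↥(Cfsg.isometryGroup F ⇑Q)) (x : ι → F) :
    (((g⁻¹ : ↥(Cfsg.isometryGroup F ⇑Q)) : Matrix.GeneralLinearGroup ι F) : Matrix ι ι F) *ᵥ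
      (((g : Matrix.GeneralLinearGroup ι F) : Matrix ι ι F) *ᵥ x) = x := by
  rw [← CDG.mul_mulVec, inv_mul_cancel, CDG.one_mulVec']

theorem st_mulVec_inv (g : ↥(Cfsg.isometryGroup F ⇑Q)) (x : ι → F) :
    ((g : Matrix.GeneralLinearGroup ι F) : Matrix ι ι F) *ᵥ
      ((((g⁻¹ : ↥(Cfsg.isometryGroup F ⇑Q)) : Matrix.GeneralLinearGroup ι F) : Matrix ι ι F) *ᵥ x) = x := by
  rw [← CDG.mul_mulVec, mul_inv_cancel, CDG.one_mulVec']

/-- the additive automorphism `x ↦ a • (g x)` -/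
def mvEquiv (a : F) (ha : a ≠ 0) (g : ↥(Cfsg.isometryGroup F ⇑Q)) : (ι → F) ≃+ (ι → F) where
  toFun x := a • (((g : Matrix.GeneralLinearGroup ι F) : Matrix ι ι F) *ᵥ x)
  invFun x := (((g⁻¹ : ↥(Cfsg.isometryGroup F ⇑Q)) : Matrix.GeneralLinearGroup ι F) : Matrix ι ι F) *ᵥ
    (a⁻¹ • x)
  left_inv x := by
    show (((g⁻¹ : ↥(Cfsg.isometryGroup F ⇑Q)) : Matrix.GeneralLinearGroup ι F) : Matrix ι ι F) *ᵥ
      (a⁻¹ • a • (((g : Matrix.GeneralLinearGroup ι F) : Matrix ι ι F) *ᵥ x)) = x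
    rw [smul_smul, inv_mul_cancel₀ ha, one_smul, st_inv_mulVec]
  right_inv x := by
    show a • (((g : Matrix.GeneralLinearGroup ι F) : Matrix ι ι F) *ᵥ
      ((((g⁻¹ : ↥(Cfsg.isometryGroup F ⇑Q)) : Matrix.GeneralLinearGroup ι F) : Matrix ι ι F) *ᵥ
        (a⁻¹ • x))) = x
    rw [st_mulVec_inv, smul_smul, mul_inv_cancel₀ ha, one_smul]
  map_add' x y := by
    show a • (((g : Matrix.GeneralLinearGroup ι F) : Matrix ι ι F) *ᵥ (x + y)) = _
    rw [Matrix.mulVec_add, smul_add]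

theorem mvEquiv_apply (a : F) (ha : a ≠ 0) (g : ↥(Cfsg.isometryGroup F ⇑Q)) (x : ι → F) :
    mvEquiv a ha g x = a • (((g : Matrix.GeneralLinearGroup ι F) : Matrix ι ι F) *ᵥ x) := rfl

end mv

end Cfsg.Agent.Lib.Helper2.OmMin

namespace Cfsg.Agent.Lib.Helper2.OmMin

open Matrix Cfsg Cfsg.Agent.Lib.Helper2.HypExt Cfsg.Agent.Lib.Helper2.Siegel
open Cfsg.Agent.Lib.Helper2.LongRoot Cfsg.Agent.Lib.Helper1.SUMin Cfsg.Agent.Lib.Helper4.SLMin
open Cfsg.Agent.Lib.Helper2.CDG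
open scoped ComplexConjugate

universe u

section tr
variable {F : Type u} [Field F] [Fintype F] [DecidableEq F] {ι : Type} [Fintype ι] [DecidableEq ι]
variable {Q : QuadraticForm F (ι → F)}

/-- `psiU u' (a • g x) = psiU (g⁻¹ (a • u')) x` -/
theorem st_psiU_mv (ψ0 : AddChar F ℂ) (a : F) (ha : a ≠ 0) (g : ↥(Cfsg.isometryGroup F ⇑Q))
    (u' x : ι → F) :
    psiU ψ0 Q u' (mvEquiv a ha g x) =
      psiU ψ0 Q ((((g⁻¹ : ↥(Cfsg.isometryGroup F ⇑Q)) : Matrix.GeneralLinearGroup ι F) :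
        Matrix ι ι F) *ᵥ (a • u')) x := by
  rw [mvEquiv_apply, psiU_smul]
  have h := psiU_iso (Q := Q) ψ0 g⁻¹ (a • u')
    (((g : Matrix.GeneralLinearGroup ι F) : Matrix ι ι F) *ᵥ x)
  rw [st_inv_mulVec] at h
  exact h.symm

theorem st_Q_mv (a : F) (g : ↥(Cfsg.isometryGroup F ⇑Q)) (u' : ι → F) :
    Q ((((g⁻¹ : ↥(Cfsg.isometryGroup F ⇑Q)) : Matrix.GeneralLinearGroup ι F) :
        Matrix ι ι F) *ᵥ (a • u')) = a * a * Q u' := by
  rw [CDG.iso_Q, QuadraticMap.map_smul, smul_eq_mul]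

theorem st_mv_ne_zero (a : F) (ha : a ≠ 0) (g : ↥(Cfsg.isometryGroup F ⇑Q)) (u' : ι → F)
    (hu' : u' ≠ 0) :
    (((g⁻¹ : ↥(Cfsg.isometryGroup F ⇑Q)) : Matrix.GeneralLinearGroup ι F) :
        Matrix ι ι F) *ᵥ (a • u') ≠ 0 := by
  intro h
  have h2 := congrArg (fun v => ((g : Matrix.GeneralLinearGroup ι F) : Matrix ι ι F) *ᵥ v) h
  simp only [st_mulVec_inv, Matrix.mulVec_zero] at h2
  rcases smul_eq_zero.1 h2 with h3 | h3
  · exact ha h3
  · exact hu' h3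

end tr

end Cfsg.Agent.Lib.Helper2.OmMin
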