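import Mathlib
import Cfsg.Prelude.Def_Characters
import Cfsg.Agent.Lib.Helper2.OmMin.Mv
import Cfsg.Agent.Lib.Helper2.HypExt3
import Cfsg.Agent.Lib.Helper4.Characters
import Cfsg.Agent.Lib.Helper6.OmMin_M
import Cfsg.Agent.Lib.Helper6.OmMin_H
import Cfsg.Agent.Lib.Lead.OmMin_ABS1
import Cfsg.Agent.Lib.Helper3.OmMin_COUNT

/-!
# S2346, PK-S1: the multiplicities of a character on the Siegel radical
-/

set_option autoImplicit false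
set_option linter.unusedSectionVars false
set_option linter.style.haveILetI false

namespace Cfsg.Agent.Lib.Helper2.OmMin

open Matrix Cfsg Cfsg.Agent.Lib.Helper2.HypExt Cfsg.Agent.Lib.Helper2.Siegel
open Cfsg.Agent.Lib.Helper2.LongRoot Cfsg.Agent.Lib.Helper1.SUMin Cfsg.Agent.Lib.Helper4.SLMin
open Cfsg.Agent.Lib.Helper2.CDG
open scoped ComplexConjugate

universe u

section
variable {F : Type u} [Field F] [Fintype F] [DecidableEq F] {ι : Type} [Fintype ι] [DecidableEq ι]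

/-- sums over the nonzero vectors, sorted by norm -/
theorem sum_by_norm (Q : QuadraticForm F (ι → F)) (g : F → ℂ) (w : (ι → F) → ℂ) :
    ∑ u : ι → F, (if u = 0 then 0 else g (Q u) * w u) =
      ∑ c : F, g c * ∑ u ∈ (Finset.univ.filter fun u : ι → F => u ≠ 0 ∧ Q u = c), w u := by
  have h1 : ∀ c : F, g c * ∑ u ∈ (Finset.univ.filter fun u : ι → F => u ≠ 0 ∧ Q u = c), w u =
      ∑ u : ι → F, (if Q u = c then (if u = 0 then 0 else g (Q u) * w u) else 0) := by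
    intro c
    rw [Finset.mul_sum, Finset.sum_filter]
    apply Finset.sum_congr rfl
    intro u _
    by_cases hu : u = 0
    · simp [hu]
    · by_cases hc : Q u = c
      · simp [hu, hc]
      · simp [hu, hc]
  simp_rw [h1]
  rw [Finset.sum_comm]
  apply Finset.sum_congr rfl
  intro u _
  rw [Finset.sum_ite_eq]
  simp

theorem nrm_eq_card (Q : QuadraticForm F (ι → F)) (c : F) :
    nrm Q c = (Finset.univ.filter fun u : ι → F => u ≠ 0 ∧ Q u = c).card := by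
  unfold nrm
  rw [Nat.card_eq_fintype_card, Fintype.card_subtype]

end

section
variable {F : Type u} [Field F] [Fintype F] [DecidableEq F] {κ : Type} [Fintype κ] [DecidableEq κ]
variable {W₂ : QuadraticForm F (κ → F)} (hW₂ : (QuadraticMap.polarBilin W₂).Nondegenerate)

/-- the multiplicities are invariant under the normaliser of the Siegel radical -/
theorem mult_conj (h1 : 1 ≤ Fintype.card κ) (ψ0 : AddChar F ℂ)
    {χ : ↥(Cfsg.Omega F ⇑(HQ (HQ W₂))) → ℂ}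
    (hcf : IsClassFunction ↥(Cfsg.Omega F ⇑(HQ (HQ W₂))) χ)
    (g : ↥(Cfsg.isometryGroup F ⇑(HQ W₂))) (n : ↥(Cfsg.Omega F ⇑(HQ (HQ W₂))))
    (hn : (n : ↥(Cfsg.isometryGroup F ⇑(HQ (HQ W₂)))) = jO (HQ W₂) g) (u : Fin 2 ⊕ κ → F) :
    isoAvg (qeΩ (HQ_nondeg W₂ hW₂))
        (psiU ψ0 (HQ W₂) (((g : Matrix.GeneralLinearGroup (Fin 2 ⊕ κ) F) : Matrix _ _ F) *ᵥ u)) χ 1 =
      isoAvg (qeΩ (HQ_nondeg W₂ hW₂)) (psiU ψ0 (HQ W₂) u) χ 1 := by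
  haveI : Fintype ↥(Cfsg.Omega F ⇑(HQ (HQ W₂))) := Fintype.ofFinite _
  have h3 : 3 ≤ Fintype.card (Fin 2 ⊕ κ) := by
    simp only [Fintype.card_sum, Fintype.card_fin]; omega
  have hconj : ∀ x, n * qeΩ (HQ_nondeg W₂ hW₂) x * n⁻¹ =
      qeΩ (HQ_nondeg W₂ hW₂) (mvEquiv 1 one_ne_zero g x) := by
    intro x
    rw [mvEquiv_apply, one_smul]
    exact conj_qeΩ (HQ_nondeg W₂ hW₂) h3 g n hn x
  have hψ : ∀ x, psiU ψ0 (HQ W₂)
      (((g : Matrix.GeneralLinearGroup (Fin 2 ⊕ κ) F) : Matrix _ _ F) *ᵥ u)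
      (mvEquiv 1 one_ne_zero g x) = psiU ψ0 (HQ W₂) u x := by
    intro x
    rw [mvEquiv_apply, one_smul]
    exact psiU_iso ψ0 g u x
  have h := isoAvg_conj_param hcf (qeΩ (HQ_nondeg W₂ hW₂)) (qeΩ (HQ_nondeg W₂ hW₂)) n
    (mvEquiv 1 one_ne_zero g) hconj (psiU ψ0 (HQ W₂) u) _ hψ 1
  rw [mul_one, mul_inv_cancel] at h
  exact h

/-- the general multiplicity statement: `htrans` = transitivity of the normaliser on the norm classes -/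
theorem mult_gen (h1 : 1 ≤ Fintype.card κ) (ψ0 : AddChar F ℂ) (hψ0 : ψ0 ≠ 1)
    {χ : ↥(Cfsg.Omega F ⇑(HQ (HQ W₂))) → ℂ}
    (hχ : IsCharacter ↥(Cfsg.Omega F ⇑(HQ (HQ W₂))) χ)
    (htrans : ∀ u u' : Fin 2 ⊕ κ → F, u ≠ 0 → u' ≠ 0 → HQ W₂ u = HQ W₂ u' →
      ∃ (g : ↥(Cfsg.isometryGroup F ⇑(HQ W₂))) (n : ↥(Cfsg.Omega F ⇑(HQ (HQ W₂)))),
        (n : ↥(Cfsg.isometryGroup F ⇑(HQ (HQ W₂)))) = jO (HQ W₂) g ∧
        ((g : Matrix.GeneralLinearGroup (Fin 2 ⊕ κ) F) : Matrix _ _ F) *ᵥ u = u') :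
    ∃ (t : ℕ) (d : F → ℕ),
      isoAvg (qeΩ (HQ_nondeg W₂ hW₂)) (1 : AddChar _ ℂ) χ 1 = t ∧
      (∀ u : Fin 2 ⊕ κ → F, u ≠ 0 →
        isoAvg (qeΩ (HQ_nondeg W₂ hW₂)) (psiU ψ0 (HQ W₂) u) χ 1 = d (HQ W₂ u)) ∧
      χ 1 = (t : ℂ) + ∑ c : F, (d c : ℂ) * nrm (HQ W₂) c ∧
      χ 1 - χ (lrΩ hW₂) =
        (∑ c : F, (d c : ℂ)) * (Fintype.card F : ℂ) ^ (Fintype.card κ + 1) := by
  haveI : Fintype ↥(Cfsg.Omega F ⇑(HQ (HQ W₂))) := Fintype.ofFinite _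
  have h3 : 3 ≤ Fintype.card (Fin 2 ⊕ κ) := by
    simp only [Fintype.card_sum, Fintype.card_fin]; omega
  have hζ : ∀ a b, qeΩ (HQ_nondeg W₂ hW₂) (a + b) =
      qeΩ (HQ_nondeg W₂ hW₂) a * qeΩ (HQ_nondeg W₂ hW₂) b := qeΩ_add _ h3
  have hcf := Cfsg.Agent.Lib.Helper4.isClassFunction_of_isCharacter hχ
  have hnat : ∀ ψ : AddChar (Fin 2 ⊕ κ → F) ℂ, ∃ n : ℕ,
      isoAvg (qeΩ (HQ_nondeg W₂ hW₂)) ψ χ 1 = n :=
    fun ψ => isoAvg_one_nat hχ _ hζ ψ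
  choose m hm using hnat
  -- invariance
  have hinv : ∀ u u' : Fin 2 ⊕ κ → F, u ≠ 0 → u' ≠ 0 → HQ W₂ u = HQ W₂ u' →
      m (psiU ψ0 (HQ W₂) u) = m (psiU ψ0 (HQ W₂) u') := by
    intro u u' hu hu' huu'
    obtain ⟨g, n, hn, hg⟩ := htrans u u' hu hu' huu'
    have h := mult_conj hW₂ h1 ψ0 hcf g n hn u
    rw [hg, hm, hm] at h
    exact_mod_cast h.symm
  have hrep0 : ∀ c : F, (mk3 1 c 0 : Fin 2 ⊕ κ → F) ≠ 0 := by
    intro c h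
    have := congrFun h (Sum.inl 0)
    simp at this
  have hd : ∀ u : Fin 2 ⊕ κ → F, u ≠ 0 →
      isoAvg (qeΩ (HQ_nondeg W₂ hW₂)) (psiU ψ0 (HQ W₂) u) χ 1 =
        ((m (psiU ψ0 (HQ W₂) (mk3 1 (HQ W₂ u) 0)) : ℕ) : ℂ) := by
    intro u hu
    rw [hm, hinv u (mk3 1 (HQ W₂ u) 0) hu (hrep0 _) (by rw [HQ_e, one_mul])]
  have hbij := psiU_bijective (HQ_nondeg W₂ hW₂) ψ0 hψ0
  -- the sum over all characters as a sum over vectors
  have hsumU : ∀ f : AddChar (Fin 2 ⊕ κ → F) ℂ → ℂ,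
      ∑ ψ, f ψ = ∑ u : Fin 2 ⊕ κ → F, f (psiU ψ0 (HQ W₂) u) := by
    intro f
    exact ((Equiv.ofBijective _ hbij).sum_comp f).symm
  refine ⟨m 1, fun c => m (psiU ψ0 (HQ W₂) (mk3 1 c 0)), hm 1, hd, ?_, ?_⟩
  · -- the degree formula
    have h := isoAvg_sum_all χ (qeΩ (HQ_nondeg W₂ hW₂)) hζ 1
    rw [hsumU] at h
    rw [← h]
    have hsplit : ∀ u : Fin 2 ⊕ κ → F,
        isoAvg (qeΩ (HQ_nondeg W₂ hW₂)) (psiU ψ0 (HQ W₂) u) χ 1 =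
          (if u = 0 then ((m 1 : ℕ) : ℂ) else 0) +
          (if u = 0 then 0 else
            ((m (psiU ψ0 (HQ W₂) (mk3 1 (HQ W₂ u) 0)) : ℕ) : ℂ) * 1) := by
      intro u
      by_cases hu : u = 0
      · subst hu
        rw [if_pos rfl, if_pos rfl, add_zero, psiU_zero, hm]
      · rw [if_neg hu, if_neg hu, zero_add, mul_one, hd u hu]
    simp_rw [hsplit]
    rw [Finset.sum_add_distrib, Finset.sum_ite_eq' Finset.univ (0 : Fin 2 ⊕ κ → F),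
      if_pos (Finset.mem_univ _),
      sum_by_norm (HQ W₂) (fun c => ((m (psiU ψ0 (HQ W₂) (mk3 1 c 0)) : ℕ) : ℂ)) (fun _ => 1)]
    congr 1
    apply Finset.sum_congr rfl
    intro c _
    rw [Finset.sum_const, nsmul_eq_mul, mul_one, nrm_eq_card]
  · -- the level formula
    have ha := isoAvg_sum_all χ (qeΩ (HQ_nondeg W₂ hW₂)) hζ 1
    have hb := char_eq_sum_mult χ (qeΩ (HQ_nondeg W₂ hW₂)) hζ (mk3 1 0 0)
    rw [hsumU] at ha hb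
    have hlr : lrΩ hW₂ = qeΩ (HQ_nondeg W₂ hW₂) (mk3 1 0 0) := rfl
    rw [hlr, ← ha, ← hb, ← Finset.sum_sub_distrib]
    have hsplit : ∀ u : Fin 2 ⊕ κ → F,
        isoAvg (qeΩ (HQ_nondeg W₂ hW₂)) (psiU ψ0 (HQ W₂) u) χ 1 -
          isoAvg (qeΩ (HQ_nondeg W₂ hW₂)) (psiU ψ0 (HQ W₂) u) χ 1 *
            psiU ψ0 (HQ W₂) u (mk3 1 0 0) =
          (if u = 0 then 0 else
            ((m (psiU ψ0 (HQ W₂) (mk3 1 (HQ W₂ u) 0)) : ℕ) : ℂ) *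
              (1 - ψ0 (u (Sum.inl 1)))) := by
      intro u
      by_cases hu : u = 0
      · subst hu
        rw [if_pos rfl, psiU_zero, AddChar.one_apply, mul_one, sub_self]
      · rw [if_neg hu, hd u hu, psiU_apply, QuadraticMap.polar_comm, polar_e]
        ring
    simp_rw [hsplit]
    rw [sum_by_norm (HQ W₂) (fun c => ((m (psiU ψ0 (HQ W₂) (mk3 1 c 0)) : ℕ) : ℂ))
      (fun u => 1 - ψ0 (u (Sum.inl 1))), Finset.sum_mul]
    apply Finset.sum_congr rfl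
    intro c _
    rw [sum_level W₂ ψ0 hψ0 c]

end

section S
variable {F : Type u} [Field F] [Fintype F] [DecidableEq F] {κ : Type} [Fintype κ] [DecidableEq κ]
variable {W₄ : QuadraticForm F (κ → F)} (hW₄ : (QuadraticMap.polarBilin W₄).Nondegenerate)

/-- PK-S1: the multiplicities of `χ` on the Siegel radical `qeΩ` of `Ω(V)`, `V = HQ W`, `W = HQ (HQ W₄)` -/
theorem exists_mult (h1 : 1 ≤ Fintype.card κ) (ψ0 : AddChar F ℂ) (hψ0 : ψ0 ≠ 1)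
    {χ : ↥(Cfsg.Omega F ⇑(HQ (HQ (HQ W₄)))) → ℂ}
    (hχ : IsCharacter ↥(Cfsg.Omega F ⇑(HQ (HQ (HQ W₄)))) χ) :
    ∃ (t : ℕ) (d : F → ℕ),
      isoAvg (qeΩ (HQ_nondeg _ (HQ_nondeg W₄ hW₄))) (1 : AddChar _ ℂ) χ 1 = t ∧
      (∀ u : Fin 2 ⊕ (Fin 2 ⊕ κ) → F, u ≠ 0 →
        isoAvg (qeΩ (HQ_nondeg _ (HQ_nondeg W₄ hW₄))) (psiU ψ0 (HQ (HQ W₄)) u) χ 1 =
          d (HQ (HQ W₄) u)) ∧
      χ 1 = (t : ℂ) + ∑ c : F, (d c : ℂ) * nrm (HQ (HQ W₄)) c ∧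
      χ 1 - χ (lrΩ (HQ_nondeg W₄ hW₄)) =
        (∑ c : F, (d c : ℂ)) * (Fintype.card F : ℂ) ^ (Fintype.card κ + 3) := by
  have h1' : 1 ≤ Fintype.card (Fin 2 ⊕ κ) := by
    simp only [Fintype.card_sum, Fintype.card_fin]; omega
  have h5 : 5 ≤ Fintype.card (Fin 2 ⊕ (Fin 2 ⊕ κ)) := by
    simp only [Fintype.card_sum, Fintype.card_fin]; omega
  have hexp : Fintype.card (Fin 2 ⊕ κ) + 1 = Fintype.card κ + 3 := by
    simp only [Fintype.card_sum, Fintype.card_fin]; omega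
  have h := mult_gen (HQ_nondeg W₄ hW₄) h1' ψ0 hψ0 hχ (by
    intro u u' hu hu' huu'
    obtain ⟨g, hgΩ, hg⟩ := omega_trans (HQ_nondeg _ (HQ_nondeg W₄ hW₄)) h5 u u' hu hu' huu'
    exact ⟨g, jΩ (HQ (HQ W₄)) ⟨g, hgΩ⟩, jΩ_coe _ _, hg⟩)
  rw [hexp] at h
  exact h

end S

end Cfsg.Agent.Lib.Helper2.OmMin
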