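import Mathlib
import Cfsg.Prelude.Def_Characters
import Cfsg.Agent.Lib.Helper2.OmMin.S1
import Cfsg.Agent.Lib.Helper3.OmMin_ABS2
import Cfsg.Agent.Lib.Helper1.RepBasic
import Cfsg.Agent.S0139
import Cfsg.Agent.Lib.Helper1.OmMin_T2

/-!
# S2346, BASE: the orbit bound for `Ω(HQ (HQ A))`, `A` with universal norm
-/

set_option autoImplicit false
set_option linter.unusedSectionVars false
set_option linter.style.haveILetI false

namespace Cfsg.Agent.Lib.Helper2.OmMin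

open Matrix Cfsg Cfsg.Agent.Lib.Helper2.HypExt Cfsg.Agent.Lib.Helper2.Siegel
open Cfsg.Agent.Lib.Helper2.LongRoot Cfsg.Agent.Lib.Helper1.SUMin Cfsg.Agent.Lib.Helper4.SLMin
open Cfsg.Agent.Lib.Helper4.SLMin.PkA Cfsg.Agent.Lib.Helper2.CDG
open scoped ComplexConjugate

universe u

section BASE
variable {F : Type u} [Field F] [Fintype F] {κ : Type} [Fintype κ] [DecidableEq κ]
variable {A : QuadraticForm F (κ → F)} (hA : (QuadraticMap.polarBilin A).Nondegenerate)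

/-- the embedded Eichler elements of `HQ A` lie in `Ω(HQ (HQ A))` -/
theorem jO_closure_mem (h1 : 1 ≤ Fintype.card κ) (g : ↥(Cfsg.isometryGroup F ⇑(HQ A)))
    (hg : g ∈ Subgroup.closure (Set.range (qe hA) ∪ Set.range (qf hA))) :
    jO (HQ A) g ∈ Cfsg.Omega F ⇑(HQ (HQ A)) := by
  have h5 : 5 ≤ Fintype.card (Fin 2 ⊕ (Fin 2 ⊕ κ)) := by
    simp only [Fintype.card_sum, Fintype.card_fin]; omega
  have hle : Subgroup.closure (Set.range (qe hA) ∪ Set.range (qf hA)) ≤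
      (Cfsg.Omega F ⇑(HQ (HQ A))).comap (jO (HQ A)) := by
    rw [Subgroup.closure_le]
    rintro x (⟨y, rfl⟩ | ⟨y, rfl⟩)
    · show jO (HQ A) (qe hA y) ∈ Cfsg.Omega F ⇑(HQ (HQ A))
      unfold qe
      rw [jO_eich]
      exact eich_mem_Omega _ h5 _ _
    · show jO (HQ A) (qf hA y) ∈ Cfsg.Omega F ⇑(HQ (HQ A))
      unfold qf
      rw [jO_eich]
      exact eich_mem_Omega _ h5 _ _
  exact hle hg

/-- the fixed space of the Siegel radical -/
def fixSubG {k : ℕ} (ρ : Representation ℂ ↥(Cfsg.Omega F ⇑(HQ (HQ A))) (Fin k → ℂ)) :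
    Submodule ℂ (Fin k → ℂ) where
  carrier := {x | ∀ w, ρ (qeΩ (HQ_nondeg A hA) w) x = x}
  add_mem' := by
    intro a b ha hb w
    rw [map_add, ha w, hb w]
  zero_mem' := by
    intro w
    rw [map_zero]
  smul_mem' := by
    intro c x hx w
    rw [map_smul, hx w]

theorem mem_fixSubG {k : ℕ} (ρ : Representation ℂ ↥(Cfsg.Omega F ⇑(HQ (HQ A))) (Fin k → ℂ))
    (x : Fin k → ℂ) :
    x ∈ fixSubG hA ρ ↔ ∀ w, ρ (qeΩ (HQ_nondeg A hA) w) x = x := Iff.rfl

/-- orbit bound for `Ω(HQ (HQ A))`, `A` with universal norm: degree `≥ t + (smallest norm class of HQ A)` -/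
theorem base_bound (huniv : ∀ c : F, ∃ y : κ → F, A y = c) (h2 : 2 ≤ Fintype.card κ) (s : ℕ)
    (hs : ∀ c : F, s ≤ nrm (HQ A) c) :
    Full hA s ∧ IHyp hA (s + 1) := by
  classical
  have h1 : 1 ≤ Fintype.card κ := by omega
  have h3 : 3 ≤ Fintype.card (Fin 2 ⊕ κ) := by
    simp only [Fintype.card_sum, Fintype.card_fin]; omega
  obtain ⟨ψ0, hψ01⟩ := (AddChar.exists_apply_ne_zero (α := F) (a := 1)).2 one_ne_zero
  have hψ0 : ψ0 ≠ 1 := by
    rintro rfl
    exact hψ01 rfl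
  have key : ∀ (k : ℕ) (σ : Representation ℂ ↥(Cfsg.Omega F ⇑(HQ (HQ A))) (Fin k → ℂ)),
      σ.IsIrreducible → σ (lrΩ hA) ≠ 1 →
      ∃ t : ℕ, isoAvg (qeΩ (HQ_nondeg A hA)) (1 : AddChar _ ℂ) σ.character 1 = t ∧ t + s ≤ k := by
    intro k σ hσ hz
    haveI : Fintype ↥(Cfsg.Omega F ⇑(HQ (HQ A))) := Fintype.ofFinite _
    have hχ : IsCharacter ↥(Cfsg.Omega F ⇑(HQ (HQ A))) σ.character := ⟨k, σ, rfl⟩
    obtain ⟨t, d, ht, hd, hdeg, hlev⟩ := mult_gen hA h1 ψ0 hψ0 hχ (by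
      intro u u' hu hu' huu'
      obtain ⟨g, hg, hgu⟩ := trans_HQ_univ hA huniv u u' hu hu' huu'
      exact ⟨g, ⟨jO (HQ A) g, jO_closure_mem hA h1 g hg⟩, rfl, hgu⟩)
    have hχ1 : σ.character 1 = (k : ℂ) := by
      rw [Representation.char_one]; simp
    have hdegN : k = t + ∑ c, d c * nrm (HQ A) c := by
      rw [hχ1] at hdeg
      exact_mod_cast hdeg
    refine ⟨t, ht, ?_⟩
    have hex : ∃ c, d c ≠ 0 := by
      by_contra hcon
      push Not at hcon
      have h0 : (∑ c : F, (d c : ℂ)) = 0 :=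
        Finset.sum_eq_zero (fun c _ => by rw [hcon c, Nat.cast_zero])
      rw [h0, zero_mul, sub_eq_zero] at hlev
      have hk : σ.character (lrΩ hA) = (Module.finrank ℂ (Fin k → ℂ) : ℂ) := by
        rw [← hlev, hχ1]; simp
      exact hz ((Cfsg.Agent.S0139.result σ _).1 hk)
    obtain ⟨c, hc⟩ := hex
    have hle : nrm (HQ A) c ≤ ∑ c, d c * nrm (HQ A) c := by
      calc nrm (HQ A) c ≤ d c * nrm (HQ A) c := Nat.le_mul_of_pos_left _ (Nat.pos_of_ne_zero hc)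
        _ ≤ ∑ c, d c * nrm (HQ A) c :=
          Finset.single_le_sum (f := fun c => d c * nrm (HQ A) c) (fun _ _ => Nat.zero_le _)
            (Finset.mem_univ c)
    have := hs c
    omega
  constructor
  · intro k σ hσ hz
    obtain ⟨t, _, hts⟩ := key k σ hσ hz
    omega
  · intro k σ hσ hz hfix
    obtain ⟨t, ht, hts⟩ := key k σ hσ hz
    obtain ⟨x, hx0, hxfix⟩ := hfix
    haveI : Fintype ↥(Cfsg.Omega F ⇑(HQ (HQ A))) := Fintype.ofFinite _
    have hfin : (Module.finrank ℂ (fixSubG hA σ) : ℂ) = (t : ℂ) := by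
      rw [finrank_fixed σ (qeΩ (HQ_nondeg A hA)) (qeΩ_add _ h3) (fixSubG hA σ)
        (mem_fixSubG hA σ), ← ht, AddChar.coe_one]
    have hfinN : Module.finrank ℂ (fixSubG hA σ) = t := by exact_mod_cast hfin
    have hpos : 0 < Module.finrank ℂ (fixSubG hA σ) := by
      rw [Module.finrank_pos_iff_exists_ne_zero]
      exact ⟨⟨x, (mem_fixSubG hA σ x).2 hxfix⟩, fun h => hx0 (congrArg Subtype.val h)⟩
    omega

end BASE

end Cfsg.Agent.Lib.Helper2.OmMin
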