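import Mathlib

/-!
# S2346 STEP: combinatorics of the level
-/

set_option autoImplicit false

namespace Cfsg.Agent.Lib.Helper2.OmMin


universe u

/-- level `≥ 2`: two norm classes (or one twice) occur -/
theorem st_two_classes {ι : Type*} [Fintype ι] [DecidableEq ι] (d N : ι → ℕ)
    (h : 2 ≤ ∑ c, d c) : ∃ c c', N c + N c' ≤ ∑ c, d c * N c := by
  classical
  by_cases h2 : ∃ c, 2 ≤ d c
  · obtain ⟨c, hc⟩ := h2
    refine ⟨c, c, ?_⟩
    calc N c + N c = 2 * N c := by ring
      _ ≤ d c * N c := Nat.mul_le_mul_right _ hc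
      _ ≤ ∑ c, d c * N c :=
        Finset.single_le_sum (f := fun c => d c * N c) (fun _ _ => Nat.zero_le _)
          (Finset.mem_univ c)
  · push Not at h2
    -- some `c` with `d c = 1`
    have hex : ∃ c, d c ≠ 0 := by
      by_contra hcon
      push Not at hcon
      have : ∑ c, d c = 0 := Finset.sum_eq_zero (fun c _ => hcon c)
      omega
    obtain ⟨c, hc⟩ := hex
    have hc1 : d c = 1 := by have := h2 c; omega
    have hex' : ∃ c', c' ≠ c ∧ d c' ≠ 0 := by
      by_contra hcon
      push Not at hcon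
      have : ∑ c', d c' = d c := by
        apply Finset.sum_eq_single c
        · intro b _ hb; exact hcon b hb
        · intro hc'; exact absurd (Finset.mem_univ c) hc'
      omega
    obtain ⟨c', hcc', hc'⟩ := hex'
    have hc'1 : d c' = 1 := by have := h2 c'; omega
    refine ⟨c, c', ?_⟩
    have hsub : ∑ x ∈ ({c, c'} : Finset ι), d x * N x ≤ ∑ x, d x * N x :=
      Finset.sum_le_sum_of_subset (Finset.subset_univ _)
    rw [Finset.sum_pair (Ne.symm hcc'), hc1, hc'1, one_mul, one_mul] at hsub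
    exact hsub

/-- level `1`: exactly one class occurs, with multiplicity one -/
theorem st_one_class {ι : Type*} [Fintype ι] [DecidableEq ι] (d N : ι → ℕ)
    (h : ∑ c, d c = 1) : ∃ c₀, d c₀ = 1 ∧ (∀ c, c ≠ c₀ → d c = 0) ∧ ∑ c, d c * N c = N c₀ := by
  classical
  have hex : ∃ c, d c ≠ 0 := by
    by_contra hcon
    push Not at hcon
    have : ∑ c, d c = 0 := Finset.sum_eq_zero (fun c _ => hcon c)
    omega
  obtain ⟨c₀, hc₀⟩ := hex
  have hle : d c₀ ≤ ∑ c, d c :=
    Finset.single_le_sum (f := d) (fun _ _ => Nat.zero_le _) (Finset.mem_univ c₀)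
  have h1 : d c₀ = 1 := by omega
  have h0 : ∀ c, c ≠ c₀ → d c = 0 := by
    intro c hc
    by_contra hne
    have hsub : ∑ x ∈ ({c₀, c} : Finset ι), d x ≤ ∑ x, d x :=
      Finset.sum_le_sum_of_subset (Finset.subset_univ _)
    rw [Finset.sum_pair (Ne.symm hc), h1, h] at hsub
    omega
  refine ⟨c₀, h1, h0, ?_⟩
  rw [Finset.sum_eq_single c₀, h1, one_mul]
  · intro b _ hb; rw [h0 b hb, zero_mul]
  · intro hc'; exact absurd (Finset.mem_univ c₀) hc'

end Cfsg.Agent.Lib.Helper2.OmMin
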