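import Mathlib
import Cfsg.Prelude.Def_Characters
import Cfsg.Agent.Lib.Helper2.OmMin.Defs
import Cfsg.Agent.Lib.Helper1.CharInt
import Cfsg.Agent.Lib.Helper1.OmMin_INT

/-!
# S2346 STEP: the integrality consequence
-/

set_option autoImplicit false

namespace Cfsg.Agent.Lib.Helper2.OmMin

open Matrix Cfsg Cfsg.Agent.Lib.Helper2.HypExt Cfsg.Agent.Lib.Helper2.Siegel
open Cfsg.Agent.Lib.Helper2.LongRoot Cfsg.Agent.Lib.Helper1.SUMin Cfsg.Agent.Lib.Helper4.SLMin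
open scoped ComplexConjugate

universe u

section
variable {F : Type u} [Field F] [Fintype F] {κ : Type} [Fintype κ] [DecidableEq κ]
variable {W₄ : QuadraticForm F (κ → F)} (hW₄ : (QuadraticMap.polarBilin W₄).Nondegenerate)

/-- the integrality consequence in the level-one situation -/
theorem st_integral (h1 : 1 ≤ Fintype.card κ) {k : ℕ}
    (ρ : Representation ℂ ↥(Cfsg.Omega F ⇑(HQ (HQ (HQ W₄)))) (Fin k → ℂ)) (hρ : ρ.IsIrreducible)
    (e : ℕ)
    (hlev : ρ.character 1 - ρ.character (lrΩ (HQ_nondeg W₄ hW₄)) = (Fintype.card F : ℂ) ^ e) :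
    k * (Fintype.card F ^ 2 - 1) ∣
      nrm (HQ (HQ (HQ W₄))) 0 * nrm (HQ (HQ W₄)) 0 * Fintype.card F ^ e := by
  obtain ⟨M, hM, hint⟩ := lr_integral hW₄ h1 ρ hρ
  have hk0 : k ≠ 0 := by
    have := Cfsg.Agent.Lib.Helper1.finrank_ne_zero_of_irreducible ρ
    simpa using this
  have hχ1 : ρ.character 1 = (k : ℂ) := by
    rw [Representation.char_one]
    simp
  have hz : ρ.character (lrΩ (HQ_nondeg W₄ hW₄)) = (k : ℂ) - (Fintype.card F : ℂ) ^ e := by
    rw [← hχ1, ← hlev]; ring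
  have hkC : (k : ℂ) ≠ 0 := Nat.cast_ne_zero.2 hk0
  have h2 : IsIntegral ℤ (((M * Fintype.card F ^ e : ℕ) : ℂ) / (k : ℂ)) := by
    have e1 : (((M * Fintype.card F ^ e : ℕ) : ℂ) / (k : ℂ)) =
        (M : ℂ) - (M : ℂ) * ρ.character (lrΩ (HQ_nondeg W₄ hW₄)) / (k : ℂ) := by
      rw [hz]
      push_cast
      field_simp
      ring
    rw [e1]
    exact IsIntegral.sub (by exact_mod_cast isIntegral_algebraMap (R := ℤ) (A := ℂ) (x := (M : ℤ))) hint
  have h3 := Cfsg.Agent.Lib.Helper1.nat_dvd_of_isIntegral_div _ _ hk0 h2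
  obtain ⟨j, hj⟩ := h3
  refine ⟨j, ?_⟩
  calc nrm (HQ (HQ (HQ W₄))) 0 * nrm (HQ (HQ W₄)) 0 * Fintype.card F ^ e
      = (M * Fintype.card F ^ e) * (Fintype.card F ^ 2 - 1) := by rw [← hM]; ring
    _ = k * (Fintype.card F ^ 2 - 1) * j := by rw [hj]; ring

end

end Cfsg.Agent.Lib.Helper2.OmMin
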