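import Mathlib
import Cfsg.Prelude.Def_Characters
import Cfsg.Agent.Lib.Helper2.OmMin.Defs
import Cfsg.Agent.Lib.Helper1.RepBasic
import Cfsg.Agent.Lib.Helper6.OmMin_GEN

/-!
# S2346 STEP: a vector fixed by both Siegel radicals
-/

set_option autoImplicit false
set_option linter.unusedSectionVars false
set_option linter.style.haveILetI false

namespace Cfsg.Agent.Lib.Helper2.OmMin

open Matrix Cfsg Cfsg.Agent.Lib.Helper2.HypExt Cfsg.Agent.Lib.Helper2.Siegel
open Cfsg.Agent.Lib.Helper2.LongRoot Cfsg.Agent.Lib.Helper1.SUMin Cfsg.Agent.Lib.Helper4.SLMin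
open Cfsg.Agent.Lib.Helper2.CDG
open scoped ComplexConjugate

universe u

section
variable {F : Type u} [Field F] [Fintype F] [DecidableEq F] {κ : Type} [Fintype κ] [DecidableEq κ]
variable {W₄ : QuadraticForm F (κ → F)} (hW₄ : (QuadraticMap.polarBilin W₄).Nondegenerate)

/-- a vector fixed by both Siegel radicals is zero (irreducible, nontrivial on the long root element) -/
theorem st_gen (h1 : 1 ≤ Fintype.card κ) {k : ℕ}
    (ρ : Representation ℂ ↥(Cfsg.Omega F ⇑(HQ (HQ (HQ W₄)))) (Fin k → ℂ)) (hρ : ρ.IsIrreducible)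
    (hz : ρ (lrΩ (HQ_nondeg W₄ hW₄)) ≠ 1) (x : Fin k → ℂ)
    (hx1 : ∀ a, ρ (qeΩ (HQ_nondeg _ (HQ_nondeg W₄ hW₄)) a) x = x)
    (hx2 : ∀ a, ρ (qfΩ (HQ_nondeg _ (HQ_nondeg W₄ hW₄)) a) x = x) : x = 0 := by
  by_contra hx0
  have h5 : 5 ≤ Fintype.card (Fin 2 ⊕ (Fin 2 ⊕ κ)) := by
    simp only [Fintype.card_sum, Fintype.card_fin]; omega
  have hall : ∀ g, ρ g x = x := by
    intro g
    have hg : g ∈ Subgroup.closure (Set.range (qeΩ (HQ_nondeg _ (HQ_nondeg W₄ hW₄))) ∪
        Set.range (qfΩ (HQ_nondeg _ (HQ_nondeg W₄ hW₄)))) := by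
      rw [closure_qe_qf _ h5]; trivial
    induction hg using Subgroup.closure_induction with
    | mem g hg =>
      rcases hg with ⟨a, rfl⟩ | ⟨a, rfl⟩
      · exact hx1 a
      · exact hx2 a
    | one => rw [map_one]; rfl
    | mul a b _ _ ha hb => rw [map_mul, Module.End.mul_apply, hb, ha]
    | inv a _ ha =>
      have h2 : ρ a⁻¹ (ρ a x) = x := by
        rw [← Module.End.mul_apply, ← map_mul, inv_mul_cancel, map_one]; rfl
      rw [ha] at h2
      exact h2
  haveI := hρ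
  have := Cfsg.Agent.Lib.Helper1.irr_fixed_vector_trivial ρ x hx0 hall (lrΩ (HQ_nondeg W₄ hW₄))
  exact hz this

end

end Cfsg.Agent.Lib.Helper2.OmMin
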