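import Mathlib
import Cfsg.Prelude.Def_Characters
import Cfsg.Agent.Lib.Helper2.OmMin.Mv
import Cfsg.Agent.Lib.Helper2.OmMin.Step4
import Cfsg.Agent.Lib.Helper2.HypExt3
import Cfsg.Agent.Lib.Helper4.Characters
import Cfsg.Agent.Lib.Helper3.SLMin_A
import Cfsg.Agent.Lib.Helper6.OmMin_M
import Cfsg.Agent.Lib.Helper6.OmMin_H
import Cfsg.Agent.Lib.Helper6.OmMin_SW
import Cfsg.Agent.Lib.Lead.OmMin_ABS1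
import Cfsg.Agent.Lib.Helper3.OmMin_OPP
import Cfsg.Agent.Lib.Helper8.OmMin_RAD

/-!
# S2346 STEP: the swap of the two radicals and the opposite-radical argument
-/

set_option autoImplicit false
set_option linter.unusedSectionVars false
set_option linter.style.haveILetI false

namespace Cfsg.Agent.Lib.Helper2.OmMin

open Matrix Cfsg Cfsg.Agent.Lib.Helper2.HypExt Cfsg.Agent.Lib.Helper2.Siegel
open Cfsg.Agent.Lib.Helper2.LongRoot Cfsg.Agent.Lib.Helper1.SUMin Cfsg.Agent.Lib.Helper4.SLMin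
open Cfsg.Agent.Lib.Helper4.SLMin.PkA Cfsg.Agent.Lib.Helper2.CDG
open scoped ComplexConjugate

universe u

section
variable {F : Type u} [Field F] [Fintype F] [DecidableEq F] {κ : Type} [Fintype κ] [DecidableEq κ]
variable {W₄ : QuadraticForm F (κ → F)} (hW₄ : (QuadraticMap.polarBilin W₄).Nondegenerate)

/-- the multiplicities on the opposite radical, transported by the swap -/
theorem st_swap_mult (h1 : 1 ≤ Fintype.card κ) (ψ0 : AddChar F ℂ)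
    {χ : ↥(Cfsg.Omega F ⇑(HQ (HQ (HQ W₄)))) → ℂ}
    (hcf : IsClassFunction ↥(Cfsg.Omega F ⇑(HQ (HQ (HQ W₄)))) χ) :
    ∃ (a : F) (r : ↥(Cfsg.isometryGroup F ⇑(HQ (HQ W₄)))), a ≠ 0 ∧
      ∀ u' : Fin 2 ⊕ (Fin 2 ⊕ κ) → F,
        isoAvg (qfΩ (HQ_nondeg _ (HQ_nondeg W₄ hW₄))) (psiU ψ0 (HQ (HQ W₄)) u') χ 1 =
          isoAvg (qeΩ (HQ_nondeg _ (HQ_nondeg W₄ hW₄)))
            (psiU ψ0 (HQ (HQ W₄))
              ((((r⁻¹ : ↥(Cfsg.isometryGroup F ⇑(HQ (HQ W₄)))) :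
                Matrix.GeneralLinearGroup (Fin 2 ⊕ (Fin 2 ⊕ κ)) F) : Matrix _ _ F) *ᵥ (a • u'))) χ 1 := by
  haveI : Fintype ↥(Cfsg.Omega F ⇑(HQ (HQ (HQ W₄)))) := Fintype.ofFinite _
  have h3 : 3 ≤ Fintype.card (Fin 2 ⊕ (Fin 2 ⊕ κ)) := by
    simp only [Fintype.card_sum, Fintype.card_fin]; omega
  obtain ⟨n₀, a, r, ha, hn₀⟩ := exists_swap (HQ_nondeg _ (HQ_nondeg W₄ hW₄)) h3
  refine ⟨a, r, ha, fun u' => ?_⟩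
  have hn : ∀ x, n₀ * qeΩ (HQ_nondeg _ (HQ_nondeg W₄ hW₄)) x * n₀⁻¹ =
      qfΩ (HQ_nondeg _ (HQ_nondeg W₄ hW₄)) (mvEquiv a ha r x) := by
    intro x
    rw [mvEquiv_apply]
    exact hn₀ x
  have hψ : ∀ x, psiU ψ0 (HQ (HQ W₄)) u' (mvEquiv a ha r x) =
      psiU ψ0 (HQ (HQ W₄)) ((((r⁻¹ : ↥(Cfsg.isometryGroup F ⇑(HQ (HQ W₄)))) :
      Matrix.GeneralLinearGroup (Fin 2 ⊕ (Fin 2 ⊕ κ)) F) : Matrix _ _ F) *ᵥ (a • u')) x :=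
    fun x => st_psiU_mv ψ0 a ha r u' x
  have h := isoAvg_conj_param hcf (qeΩ (HQ_nondeg _ (HQ_nondeg W₄ hW₄)))
    (qfΩ (HQ_nondeg _ (HQ_nondeg W₄ hW₄))) n₀ (mvEquiv a ha r) hn _ _ hψ 1
  rw [mul_one, mul_inv_cancel] at h
  exact h

end

end Cfsg.Agent.Lib.Helper2.OmMin

namespace Cfsg.Agent.Lib.Helper2.OmMin

open Matrix Cfsg Cfsg.Agent.Lib.Helper2.HypExt Cfsg.Agent.Lib.Helper2.Siegel
open Cfsg.Agent.Lib.Helper2.LongRoot Cfsg.Agent.Lib.Helper1.SUMin Cfsg.Agent.Lib.Helper4.SLMin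
open Cfsg.Agent.Lib.Helper4.SLMin.PkA Cfsg.Agent.Lib.Helper2.CDG
open scoped ComplexConjugate

universe u

section
variable {F : Type u} [Field F] [Fintype F] [DecidableEq F] {κ : Type} [Fintype κ] [DecidableEq κ]
variable {W₄ : QuadraticForm F (κ → F)} (hW₄ : (QuadraticMap.polarBilin W₄).Nondegenerate)

/-- the opposite-radical argument in the level-one singular situation -/
theorem st_opp (h1 : 1 ≤ Fintype.card κ) (ψ0 : AddChar F ℂ) (hψ0 : ψ0 ≠ 1) {k : ℕ}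
    (ρ : Representation ℂ ↥(Cfsg.Omega F ⇑(HQ (HQ (HQ W₄)))) (Fin k → ℂ)) (hρ : ρ.IsIrreducible)
    (hz : ρ (lrΩ (HQ_nondeg W₄ hW₄)) ≠ 1)
    (hm1 : ∀ u : Fin 2 ⊕ (Fin 2 ⊕ κ) → F, u ≠ 0 → HQ (HQ W₄) u = 0 →
      isoAvg (qeΩ (HQ_nondeg _ (HQ_nondeg W₄ hW₄))) (psiU ψ0 (HQ (HQ W₄)) u) ρ.character 1 = 1)
    (hm0 : ∀ u : Fin 2 ⊕ (Fin 2 ⊕ κ) → F, u ≠ 0 → HQ (HQ W₄) u ≠ 0 →
      isoAvg (qeΩ (HQ_nondeg _ (HQ_nondeg W₄ hW₄))) (psiU ψ0 (HQ (HQ W₄)) u) ρ.character 1 = 0)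
    (Y : Submodule ℂ (Fin k → ℂ)) (hY0 : Y ≠ ⊥)
    (hYfix : ∀ y ∈ Y, ∀ w, ρ (qeΩ (HQ_nondeg _ (HQ_nondeg W₄ hW₄)) w) y = y)
    (hYstab : ∀ g : ↥(Cfsg.Omega F ⇑(HQ (HQ W₄))), ∀ y ∈ Y, ρ (jΩ (HQ (HQ W₄)) g) y ∈ Y) :
    ∃ y ∈ Y, y ≠ 0 ∧ ∀ y₂ : Fin 2 ⊕ κ → F,
      ρ (jΩ (HQ (HQ W₄)) (qeΩ (HQ_nondeg W₄ hW₄) y₂)) y = y := by
  classical
  haveI : Fintype ↥(Cfsg.Omega F ⇑(HQ (HQ (HQ W₄)))) := Fintype.ofFinite _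
  have h3 : 3 ≤ Fintype.card (Fin 2 ⊕ (Fin 2 ⊕ κ)) := by
    simp only [Fintype.card_sum, Fintype.card_fin]; omega
  have h3' : 3 ≤ Fintype.card (Fin 2 ⊕ κ) := by
    simp only [Fintype.card_sum, Fintype.card_fin]; omega
  have h5 : 5 ≤ Fintype.card (Fin 2 ⊕ (Fin 2 ⊕ κ)) := by
    simp only [Fintype.card_sum, Fintype.card_fin]; omega
  have hχ : IsCharacter ↥(Cfsg.Omega F ⇑(HQ (HQ (HQ W₄)))) ρ.character := ⟨k, ρ, rfl⟩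
  have hcf := Cfsg.Agent.Lib.Helper4.isClassFunction_of_isCharacter hχ
  obtain ⟨a, r, ha, hsw⟩ := st_swap_mult hW₄ h1 ψ0 hcf
  -- the base character
  set lam := psiU ψ0 (HQ (HQ W₄)) (mk3 1 0 0 : Fin 2 ⊕ (Fin 2 ⊕ κ) → F) with hlam
  have hh0 : (mk3 1 0 0 : Fin 2 ⊕ (Fin 2 ⊕ κ) → F) ≠ 0 := by
    intro h
    have := congrFun h (Sum.inl 0)
    simp at this
  have hhQ : HQ (HQ W₄) (mk3 1 0 0 : Fin 2 ⊕ (Fin 2 ⊕ κ) → F) = 0 := by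
    rw [HQ_e, mul_zero]
  -- multiplicity one of `lam`
  have hlam1 : isoAvg (qfΩ (HQ_nondeg _ (HQ_nondeg W₄ hW₄))) lam ρ.character 1 = 1 := by
    rw [hlam, hsw]
    apply hm1
    · exact st_mv_ne_zero a ha r _ hh0
    · rw [st_Q_mv, hhQ, mul_zero]
  -- orbit
  have horb : ∀ ψ : AddChar (Fin 2 ⊕ (Fin 2 ⊕ κ) → F) ℂ, ψ ≠ 1 →
      isoAvg (qfΩ (HQ_nondeg _ (HQ_nondeg W₄ hW₄))) ψ ρ.character 1 ≠ 0 →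
      ∃ l ∈ (jΩ (HQ (HQ W₄))).range, ∃ τ : (Fin 2 ⊕ (Fin 2 ⊕ κ) → F) ≃+ (Fin 2 ⊕ (Fin 2 ⊕ κ) → F),
        (∀ a, l * qfΩ (HQ_nondeg _ (HQ_nondeg W₄ hW₄)) a * l⁻¹ =
          qfΩ (HQ_nondeg _ (HQ_nondeg W₄ hW₄)) (τ a)) ∧ ∀ a, lam (τ a) = ψ a := by
    intro ψ hψ1 hψ
    obtain ⟨u', rfl⟩ := (psiU_bijective (HQ_nondeg _ (HQ_nondeg W₄ hW₄)) ψ0 hψ0).2 ψ
    have hu'0 : u' ≠ 0 := by
      rintro rfl
      exact hψ1 (psiU_zero ψ0)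
    have hu'Q : HQ (HQ W₄) u' = 0 := by
      by_contra hne
      apply hψ
      rw [hsw]
      apply hm0
      · exact st_mv_ne_zero a ha r _ hu'0
      · rw [st_Q_mv]
        exact mul_ne_zero (mul_ne_zero ha ha) hne
    obtain ⟨g, hgΩ, hg⟩ := omega_trans (HQ_nondeg _ (HQ_nondeg W₄ hW₄)) h5 u' (mk3 1 0 0) hu'0 hh0
      (by rw [hu'Q, hhQ])
    refine ⟨jΩ (HQ (HQ W₄)) ⟨g, hgΩ⟩, ⟨⟨g, hgΩ⟩, rfl⟩, mvEquiv 1 one_ne_zero g, ?_, ?_⟩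
    · intro x
      rw [mvEquiv_apply, one_smul]
      exact conj_qfΩ (HQ_nondeg _ (HQ_nondeg W₄ hW₄)) h3 g _ (jΩ_coe _ _) x
    · intro x
      rw [mvEquiv_apply, one_smul, hlam, ← hg]
      exact psiU_iso ψ0 g u' x
  -- the Siegel radical of `Ω(W)`
  have hη : ∀ y y' : Fin 2 ⊕ κ → F,
      jΩ (HQ (HQ W₄)) (qeΩ (HQ_nondeg W₄ hW₄) (y + y')) =
        jΩ (HQ (HQ W₄)) (qeΩ (HQ_nondeg W₄ hW₄) y) * jΩ (HQ (HQ W₄)) (qeΩ (HQ_nondeg W₄ hW₄) y') := by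
    intro y y'
    rw [qeΩ_add _ h3', map_mul]
  have hfixh : ∀ y₂ : Fin 2 ⊕ κ → F,
      ((qe (HQ_nondeg W₄ hW₄) y₂ : Matrix.GeneralLinearGroup (Fin 2 ⊕ (Fin 2 ⊕ κ)) F) :
        Matrix (Fin 2 ⊕ (Fin 2 ⊕ κ)) (Fin 2 ⊕ (Fin 2 ⊕ κ)) F) *ᵥ (mk3 1 0 0) = mk3 1 0 0 := by
    intro y₂
    rw [qe_mulVec]
    apply ext3 <;> simp
  have hηstab : ∀ y₂ : Fin 2 ⊕ κ → F, jΩ (HQ (HQ W₄)) (qeΩ (HQ_nondeg W₄ hW₄) y₂) ∈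
      invStab (qfΩ (HQ_nondeg _ (HQ_nondeg W₄ hW₄))) lam := by
    intro y₂
    refine ⟨mvEquiv 1 one_ne_zero (qe (HQ_nondeg W₄ hW₄) y₂), ?_, ?_⟩
    · intro x
      rw [mvEquiv_apply, one_smul]
      refine conj_qfΩ (HQ_nondeg _ (HQ_nondeg W₄ hW₄)) h3 (qe (HQ_nondeg W₄ hW₄) y₂) _ ?_ x
      rw [jΩ_coe, qeΩ_coe _ h3']
    · intro x
      rw [mvEquiv_apply, one_smul, hlam]
      have := psiU_iso ψ0 (qe (HQ_nondeg W₄ hW₄) y₂) (mk3 1 0 0) x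
      rw [hfixh] at this
      exact this
  have hη1 : ∀ y₂ : Fin 2 ⊕ κ → F, isoAvg (qfΩ (HQ_nondeg _ (HQ_nondeg W₄ hW₄))) lam ρ.character
      (jΩ (HQ (HQ W₄)) (qeΩ (HQ_nondeg W₄ hW₄) y₂)) = 1 :=
    fun y₂ => rad_trivial hW₄ h1 ψ0 hψ0 hχ hlam1 y₂
  obtain ⟨y, hyY, hy0, hyfix⟩ := opp_fixed ρ (qeΩ (HQ_nondeg _ (HQ_nondeg W₄ hW₄)))
    (qfΩ (HQ_nondeg _ (HQ_nondeg W₄ hW₄))) (qeΩ_add _ h3) (qfΩ_add _ h3)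
    (fun x hx1 hx2 => st_gen hW₄ h1 ρ hρ hz x hx1 hx2) (jΩ (HQ (HQ W₄))).range Y hY0 hYfix
    (by
      rintro l ⟨g, rfl⟩ y hy
      exact hYstab g y hy)
    lam horb hlam1 (fun y₂ : Fin 2 ⊕ κ → F => jΩ (HQ (HQ W₄)) (qeΩ (HQ_nondeg W₄ hW₄) y₂)) hη
    (fun y₂ => ⟨_, rfl⟩) hηstab hη1
  exact ⟨y, hyY, hy0, hyfix⟩

end

end Cfsg.Agent.Lib.Helper2.OmMin
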