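import Mathlib
import Cfsg.Prelude.Def_Characters
import Cfsg.Agent.Lib.Helper2.OmMin.Step5
import Cfsg.Agent.Lib.Helper2.OmMin.Step2
import Cfsg.Agent.Lib.Helper2.OmMin.Step1

/-!
# S2346 STEP: scaling elements; the fixed space of the Siegel radical
-/

set_option autoImplicit false
set_option linter.unusedSectionVars false
set_option linter.style.haveILetI false

namespace Cfsg.Agent.Lib.Helper2.OmMin

open Matrix Cfsg Cfsg.Agent.Lib.Helper2.HypExt Cfsg.Agent.Lib.Helper2.Siegel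
open Cfsg.Agent.Lib.Helper2.LongRoot Cfsg.Agent.Lib.Helper1.SUMin Cfsg.Agent.Lib.Helper4.SLMin
open Cfsg.Agent.Lib.Helper4.SLMin.PkA Cfsg.Agent.Lib.Helper2.CDG
open scoped ComplexConjugate

universe u

section
variable {F : Type u} [Field F] [Fintype F] [DecidableEq F] {κ : Type} [Fintype κ] [DecidableEq κ]
variable {W₄ : QuadraticForm F (κ → F)} (hW₄ : (QuadraticMap.polarBilin W₄).Nondegenerate)

/-- the multiplicities are invariant under a scaling element `n` of the normaliser -/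
theorem st_scale_mult (ψ0 : AddChar F ℂ) (μ : F) (hμ : μ ≠ 0)
    {χ : ↥(Cfsg.Omega F ⇑(HQ (HQ (HQ W₄)))) → ℂ}
    (hcf : IsClassFunction ↥(Cfsg.Omega F ⇑(HQ (HQ (HQ W₄)))) χ)
    (n : ↥(Cfsg.Omega F ⇑(HQ (HQ (HQ W₄))))) (r : ↥(Cfsg.isometryGroup F ⇑(HQ (HQ W₄))))
    (hn : ∀ w : Fin 2 ⊕ (Fin 2 ⊕ κ) → F,
      n * qeΩ (HQ_nondeg _ (HQ_nondeg W₄ hW₄)) w * n⁻¹ =
        qeΩ (HQ_nondeg _ (HQ_nondeg W₄ hW₄))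
          (μ • (((r : Matrix.GeneralLinearGroup (Fin 2 ⊕ (Fin 2 ⊕ κ)) F) : Matrix _ _ F) *ᵥ w)))
    (u' : Fin 2 ⊕ (Fin 2 ⊕ κ) → F) :
    isoAvg (qeΩ (HQ_nondeg _ (HQ_nondeg W₄ hW₄))) (psiU ψ0 (HQ (HQ W₄)) u') χ 1 =
      isoAvg (qeΩ (HQ_nondeg _ (HQ_nondeg W₄ hW₄)))
        (psiU ψ0 (HQ (HQ W₄))
          ((((r⁻¹ : ↥(Cfsg.isometryGroup F ⇑(HQ (HQ W₄)))) :
            Matrix.GeneralLinearGroup (Fin 2 ⊕ (Fin 2 ⊕ κ)) F) : Matrix _ _ F) *ᵥ (μ • u'))) χ 1 := by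
  haveI : Fintype ↥(Cfsg.Omega F ⇑(HQ (HQ (HQ W₄)))) := Fintype.ofFinite _
  have hn' : ∀ x, n * qeΩ (HQ_nondeg _ (HQ_nondeg W₄ hW₄)) x * n⁻¹ =
      qeΩ (HQ_nondeg _ (HQ_nondeg W₄ hW₄)) (mvEquiv μ hμ r x) := by
    intro x
    rw [mvEquiv_apply]
    exact hn x
  have hψ : ∀ x, psiU ψ0 (HQ (HQ W₄)) u' (mvEquiv μ hμ r x) =
      psiU ψ0 (HQ (HQ W₄)) ((((r⁻¹ : ↥(Cfsg.isometryGroup F ⇑(HQ (HQ W₄)))) :
      Matrix.GeneralLinearGroup (Fin 2 ⊕ (Fin 2 ⊕ κ)) F) : Matrix _ _ F) *ᵥ (μ • u')) x :=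
    fun x => st_psiU_mv ψ0 μ hμ r u' x
  have h := isoAvg_conj_param hcf (qeΩ (HQ_nondeg _ (HQ_nondeg W₄ hW₄)))
    (qeΩ (HQ_nondeg _ (HQ_nondeg W₄ hW₄))) n (mvEquiv μ hμ r) hn' _ _ hψ 1
  rw [mul_one, mul_inv_cancel] at h
  exact h

/-- the fixed space of the Siegel radical -/
def fixSub {k : ℕ} (ρ : Representation ℂ ↥(Cfsg.Omega F ⇑(HQ (HQ (HQ W₄)))) (Fin k → ℂ)) :
    Submodule ℂ (Fin k → ℂ) where
  carrier := {x | ∀ w, ρ (qeΩ (HQ_nondeg _ (HQ_nondeg W₄ hW₄)) w) x = x}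
  add_mem' := by
    intro a b ha hb w
    rw [map_add, ha w, hb w]
  zero_mem' := by
    intro w
    rw [map_zero]
  smul_mem' := by
    intro c x hx w
    rw [map_smul, hx w]

theorem mem_fixSub {k : ℕ} (ρ : Representation ℂ ↥(Cfsg.Omega F ⇑(HQ (HQ (HQ W₄)))) (Fin k → ℂ))
    (x : Fin k → ℂ) :
    x ∈ fixSub hW₄ ρ ↔ ∀ w, ρ (qeΩ (HQ_nondeg _ (HQ_nondeg W₄ hW₄)) w) x = x := Iff.rfl

/-- the fixed space is stable under the Levi part `jΩ (Ω(W))` -/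
theorem fixSub_stable (h1 : 1 ≤ Fintype.card κ) {k : ℕ}
    (ρ : Representation ℂ ↥(Cfsg.Omega F ⇑(HQ (HQ (HQ W₄)))) (Fin k → ℂ))
    (g : ↥(Cfsg.Omega F ⇑(HQ (HQ W₄)))) (x : Fin k → ℂ) (hx : x ∈ fixSub hW₄ ρ) :
    ρ (jΩ (HQ (HQ W₄)) g) x ∈ fixSub hW₄ ρ := by
  have h3 : 3 ≤ Fintype.card (Fin 2 ⊕ (Fin 2 ⊕ κ)) := by
    simp only [Fintype.card_sum, Fintype.card_fin]; omega
  intro w
  -- `ζ w * j g = j g * ζ (g⁻¹ w)`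
  have hc := conj_qeΩ (HQ_nondeg _ (HQ_nondeg W₄ hW₄)) h3
    ((g⁻¹ : ↥(Cfsg.Omega F ⇑(HQ (HQ W₄)))) : ↥(Cfsg.isometryGroup F ⇑(HQ (HQ W₄))))
    (jΩ (HQ (HQ W₄)) g⁻¹) (jΩ_coe _ _) w
  have e : qeΩ (HQ_nondeg _ (HQ_nondeg W₄ hW₄)) w * jΩ (HQ (HQ W₄)) g =
      jΩ (HQ (HQ W₄)) g * (jΩ (HQ (HQ W₄)) g⁻¹ * qeΩ (HQ_nondeg _ (HQ_nondeg W₄ hW₄)) w *
        (jΩ (HQ (HQ W₄)) g⁻¹)⁻¹) := by
    rw [map_inv]
    group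
  rw [← Module.End.mul_apply, ← map_mul, e, hc, map_mul, Module.End.mul_apply, hx _]

end

end Cfsg.Agent.Lib.Helper2.OmMin
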