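import Mathlib
import Cfsg.Prelude.Def_Characters
import Cfsg.Agent.Lib.Helper2.OmMin.Defs
import Cfsg.Agent.Lib.Helper2.OrthCard1

/-!
# S2346 TOWER: the family of minus-type forms `Fm j = HQ^j (QMn 0 a b)`
-/

set_option autoImplicit false
set_option linter.unusedSectionVars false
set_option linter.style.haveILetI false

namespace Cfsg.Agent.Lib.Helper2.OmMin

open Matrix Cfsg Cfsg.Agent.Lib.Helper2.HypExt Cfsg.Agent.Lib.Helper2.Siegel
open Cfsg.Agent.Lib.Helper2.LongRoot Cfsg.Agent.Lib.Helper1.SUMin Cfsg.Agent.Lib.Helper4.SLMin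
open Cfsg.Agent.Lib.Helper2.CDG
open Cfsg.Agent.Lib.Helper2.OrthCard
open scoped ComplexConjugate

universe u

/-- the index types of the minus-type tower -/
def Idx : ℕ → Type
  | 0 => (Fin 0 ⊕ Fin 0) ⊕ Fin 2
  | (j + 1) => Fin 2 ⊕ Idx j

instance Idx.instFintype : (j : ℕ) → Fintype (Idx j)
  | 0 => inferInstanceAs (Fintype ((Fin 0 ⊕ Fin 0) ⊕ Fin 2))
  | (j + 1) => letI := Idx.instFintype j; inferInstanceAs (Fintype (Fin 2 ⊕ Idx j))

instance Idx.instDecEq : (j : ℕ) → DecidableEq (Idx j)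
  | 0 => inferInstanceAs (DecidableEq ((Fin 0 ⊕ Fin 0) ⊕ Fin 2))
  | (j + 1) => letI := Idx.instDecEq j; inferInstanceAs (DecidableEq (Fin 2 ⊕ Idx j))

theorem card_Idx (j : ℕ) : Fintype.card (Idx j) = 2 * j + 2 := by
  induction j with
  | zero => 
    show Fintype.card ((Fin 0 ⊕ Fin 0) ⊕ Fin 2) = 2
    simp
  | succ j ih =>
    show Fintype.card (Fin 2 ⊕ Idx j) = 2 * (j + 1) + 2
    rw [Fintype.card_sum, ih, Fintype.card_fin]
    ring

section
variable {F : Type u} [Field F] (a b : F)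

/-- the minus-type tower of quadratic forms -/
noncomputable def Fm : (j : ℕ) → QuadraticForm F (Idx j → F)
  | 0 => QMn 0 a b
  | (j + 1) => HQ (Fm j)

theorem Fm_zero : Fm a b 0 = QMn 0 a b := rfl
theorem Fm_succ (j : ℕ) : Fm a b (j + 1) = HQ (Fm a b j) := rfl

variable [Fintype F]
variable (hab : ∀ z₁ z₂ : F, z₁ ^ 2 + a * z₁ * z₂ + b * z₂ ^ 2 = 0 → z₁ = 0 ∧ z₂ = 0)

include hab in
theorem Fm_nondeg (j : ℕ) : (QuadraticMap.polarBilin (Fm a b j)).Nondegenerate := by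
  induction j with
  | zero => exact QMn_nondeg 0 a b hab
  | succ j ih => exact HQ_nondeg (Fm a b j) ih

end

end Cfsg.Agent.Lib.Helper2.OmMin
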