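import Mathlib
import Cfsg.Prelude.Def_Characters
import Cfsg.Agent.Lib.Helper2.OmMin.Tower1
import Cfsg.Agent.Lib.Helper1.OmMin_NUM
import Cfsg.Agent.Lib.Lead.OmMin_ANISO
import Cfsg.Agent.Lib.Helper3.OmMin_COUNT

/-!
# S2346 TOWER: the sizes of the norm classes
-/

set_option autoImplicit false
set_option linter.unusedSectionVars false
set_option linter.style.haveILetI false

namespace Cfsg.Agent.Lib.Helper2.OmMin

open Matrix Cfsg Cfsg.Agent.Lib.Helper2.HypExt Cfsg.Agent.Lib.Helper2.Siegel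
open Cfsg.Agent.Lib.Helper2.LongRoot Cfsg.Agent.Lib.Helper1.SUMin Cfsg.Agent.Lib.Helper4.SLMin
open Cfsg.Agent.Lib.Helper2.CDG
open Cfsg.Agent.Lib.Helper2.OrthCard
open scoped ComplexConjugate

universe u

section
variable {F : Type u} [Field F] [Fintype F] {κ : Type} [Fintype κ] [DecidableEq κ]

theorem Full.mono {W₂ : QuadraticForm F (κ → F)}
    {hW₂ : (QuadraticMap.polarBilin W₂).Nondegenerate} {D D' : ℕ} (h : Full hW₂ D) (hD : D' ≤ D) :
    Full hW₂ D' :=
  fun k σ hσ hz => le_trans hD (h k σ hσ hz)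

theorem nrm_pos_of_exists {ι : Type} [Fintype ι] (Q : QuadraticForm F (ι → F)) (c : F) (hc : c ≠ 0)
    (h : ∃ y : ι → F, Q y = c) : 1 ≤ nrm Q c := by
  obtain ⟨y, hy⟩ := h
  have hy0 : y ≠ 0 := by
    rintro rfl
    rw [map_zero] at hy
    exact hc hy.symm
  unfold nrm
  haveI : Nonempty {v : ι → F // v ≠ 0 ∧ Q v = c} := ⟨⟨y, hy0, hy⟩⟩
  exact Nat.one_le_iff_ne_zero.2 (Nat.card_pos.ne')

theorem eq_zero_of_nrm_zero {ι : Type} [Fintype ι] (Q : QuadraticForm F (ι → F)) (c : F)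
    (h : nrm Q c = 0) (y : ι → F) (hy : Q y = c) : y = 0 := by
  by_contra hy0
  unfold nrm at h
  haveI : Nonempty {v : ι → F // v ≠ 0 ∧ Q v = c} := ⟨⟨y, hy0, hy⟩⟩
  exact Nat.card_pos.ne' h

end

section
variable {F : Type u} [Field F] [Fintype F] (a b : F)
variable (hab : ∀ z₁ z₂ : F, z₁ ^ 2 + a * z₁ * z₂ + b * z₂ ^ 2 = 0 → z₁ = 0 ∧ z₂ = 0)

include hab in
theorem nrm_Fm (j : ℕ) : nrm (Fm a b j) 0 = sM (Fintype.card F) j ∧
    ∀ c : F, c ≠ 0 → sM (Fintype.card F) j + 1 ≤ nrm (Fm a b j) c := by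
  classical
  have hq : 2 ≤ Fintype.card F := Fintype.one_lt_card
  induction j with
  | zero =>
    constructor
    · rw [sM_zero hq]
      exact aniso_nrm_zero a b hab
    · intro c hc
      rw [sM_zero hq]
      exact nrm_pos_of_exists (Fm a b 0) c hc (aniso_univ a b hab c)
  | succ j ih =>
    constructor
    · show nrm (HQ (Fm a b j)) 0 = _
      rw [nrm_HQ, if_pos rfl, ih.1, card_Idx, sM_succ hq]
    · intro c hc
      show _ ≤ nrm (HQ (Fm a b j)) c
      rw [nrm_HQ, if_neg hc, card_Idx, sM_succ hq]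
      have := ih.2 c hc
      have h2 : Fintype.card F * (sM (Fintype.card F) j + 1) ≤ Fintype.card F * nrm (Fm a b j) c :=
        Nat.mul_le_mul_left _ this
      rw [mul_add, mul_one] at h2
      omega

include hab in
theorem nrm_Fm_ge (j : ℕ) (c : F) : sM (Fintype.card F) j ≤ nrm (Fm a b j) c := by
  by_cases hc : c = 0
  · subst hc
    rw [(nrm_Fm a b hab j).1]
  · have := (nrm_Fm a b hab j).2 c hc
    omega

end

end Cfsg.Agent.Lib.Helper2.OmMin
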