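import Mathlib
import Cfsg.Prelude.Def_Characters
import Cfsg.Agent.Lib.Helper2.OmMin.Tower2
import Cfsg.Agent.Lib.Helper4.SLMin.Defs
import Cfsg.Agent.Lib.Helper6.OmMin_XC

/-!
# S2346 TOWER: the commutator hypothesis of the step
-/

set_option autoImplicit false
set_option linter.unusedSectionVars false
set_option linter.style.haveILetI false

namespace Cfsg.Agent.Lib.Helper2.OmMin

open Matrix Cfsg Cfsg.Agent.Lib.Helper2.HypExt Cfsg.Agent.Lib.Helper2.Siegel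
open Cfsg.Agent.Lib.Helper2.LongRoot Cfsg.Agent.Lib.Helper1.SUMin Cfsg.Agent.Lib.Helper4.SLMin
open Cfsg.Agent.Lib.Helper2.CDG
open Cfsg.Agent.Lib.Helper2.OrthCard
open scoped ComplexConjugate

universe u

/-- the numerical fact behind the characteristic-2 case of the first step -/
theorem num_char2 {q : ℕ} (hq : 2 ≤ q) :
    sM q 2 + dM q 2 + 1 ≤ (q - 1) * q ^ 4 + q * ((q - 1) * q ^ 2 + q * (q + 1)) := by
  rw [dM_two hq]
  unfold sM
  obtain ⟨p, rfl⟩ := Nat.exists_eq_add_of_le hq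
  have h1 : (2 + p) ≤ (2 + p) ^ 3 := by nlinarith [sq_nonneg p]
  have h2 : (2 + p) ^ 2 ≤ (2 + p) ^ 3 := Nat.pow_le_pow_right (by omega) (by omega)
  have h3 : 1 ≤ (2 + p) ^ 2 * ((2 + p) ^ (2 + 1) - (2 + p) + 1) :=
    Nat.one_le_iff_ne_zero.2 (Nat.mul_ne_zero (by positivity) (by omega))
  zify [h1, h2, h3]
  have e : ((2 + p : ℕ) : ℤ) - 1 = (p : ℤ) + 1 := by push_cast; ring
  rw [Nat.cast_sub (by omega : 1 ≤ 2 + p)]
  push_cast
  nlinarith [sq_nonneg (p : ℤ), Int.natCast_nonneg p]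

section
variable {F : Type u} [Field F] [Fintype F] (a b : F)
variable (hab : ∀ z₁ z₂ : F, z₁ ^ 2 + a * z₁ * z₂ + b * z₂ ^ 2 = 0 → z₁ = 0 ∧ z₂ = 0)

/-- the norm of a vector with vanishing second hyperbolic coordinates -/
theorem HQHQ_of_zero {κ : Type} [Fintype κ] [DecidableEq κ] (W₄ : QuadraticForm F (κ → F))
    (u : Fin 2 ⊕ (Fin 2 ⊕ κ) → F) (hu1 : u (Sum.inl 1) = 0) (hu2 : tl u (Sum.inl 1) = 0) :
    HQ (HQ W₄) u = W₄ (tl (tl u)) := by
  rw [HQ_apply, HQ_apply, hu1, hu2, mul_zero, mul_zero, zero_add, zero_add]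

include hab in
/-- the commutator hypothesis of the first step -/
theorem hcomm_zero (ψ0 : AddChar F ℂ) (u : Fin 2 ⊕ (Fin 2 ⊕ Idx 0) → F) (hu0 : u ≠ 0)
    (hu1 : u (Sum.inl 1) = 0) (hu2 : tl u (Sum.inl 1) = 0)
    (hlt : nrm (HQ (HQ (Fm a b 0))) (HQ (HQ (Fm a b 0)) u) <
      nrm (HQ (HQ (Fm a b 0))) 0 + dM (Fintype.card F) 2 + 1) :
    ∃ x y : ↥(Cfsg.Omega F ⇑(HQ (HQ (HQ (Fm a b 0))))),
      x ∈ invStab (qeΩ (HQ_nondeg _ (HQ_nondeg (Fm a b 0) (Fm_nondeg a b hab 0))))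
        (psiU ψ0 (HQ (HQ (Fm a b 0))) u) ∧
      y ∈ invStab (qeΩ (HQ_nondeg _ (HQ_nondeg (Fm a b 0) (Fm_nondeg a b hab 0))))
        (psiU ψ0 (HQ (HQ (Fm a b 0))) u) ∧
      x * y * x⁻¹ * y⁻¹ = jΩ (HQ (HQ (Fm a b 0))) (lrΩ (Fm_nondeg a b hab 0)) := by
  classical
  have hq : 2 ≤ Fintype.card F := Fintype.one_lt_card
  have hc2 : Fintype.card (Idx 0) = 2 := card_Idx 0
  have hpair : ∃ y y' : Idx 0 → F,
      QuadraticMap.polar (⇑(Fm a b 0)) y (tl (tl u)) = 0 ∧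
      QuadraticMap.polar (⇑(Fm a b 0)) y' (tl (tl u)) = 0 ∧
      QuadraticMap.polar (⇑(Fm a b 0)) y y' = 1 := by
    by_cases h2 : (2 : F) = 0
    · -- characteristic 2
      by_cases hc : Fm a b 0 (tl (tl u)) = 0
      · have hu4 : tl (tl u) = 0 :=
          eq_zero_of_nrm_zero (Fm a b 0) 0 (aniso_nrm_zero a b hab) _ hc
        obtain ⟨y, y', hyy'⟩ := exists_pair (Fm_nondeg a b hab 0) (by omega)
        refine ⟨y, y', ?_, ?_, hyy'⟩
        · rw [hu4]; simp [QuadraticMap.polar]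
        · rw [hu4]; simp [QuadraticMap.polar]
      · exfalso
        rw [HQHQ_of_zero _ u hu1 hu2] at hlt
        have e0 : nrm (HQ (HQ (Fm a b 0))) 0 = sM (Fintype.card F) 2 := (nrm_Fm a b hab 2).1
        have e1 : nrm (Fm a b 0) (Fm a b 0 (tl (tl u))) = Fintype.card F + 1 :=
          aniso_nrm_char2 a b hab h2 _ hc
        have hN : nrm (HQ (HQ (Fm a b 0))) (Fm a b 0 (tl (tl u))) =
            (Fintype.card F - 1) * Fintype.card F ^ 4 + Fintype.card F *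
              ((Fintype.card F - 1) * Fintype.card F ^ 2 + Fintype.card F * (Fintype.card F + 1)) := by
          rw [nrm_HQ, nrm_HQ, if_neg hc, Fintype.card_sum, Fintype.card_fin, hc2, e1, add_zero,
            add_zero]
        rw [e0, hN] at hlt
        have := num_char2 hq
        omega
    · exact aniso_perp_pair a b hab h2 (tl (tl u))
  obtain ⟨y, y', hy, hy', hyy'⟩ := hpair
  exact exists_comm_lr (Fm_nondeg a b hab 0) ψ0 u hu1 hu2 y y' hy hy' hyy'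

include hab in
/-- the commutator hypothesis of the later steps -/
theorem hcomm_succ (i : ℕ) (ψ0 : AddChar F ℂ) (u : Fin 2 ⊕ (Fin 2 ⊕ Idx (i + 1)) → F)
    (hu1 : u (Sum.inl 1) = 0) (hu2 : tl u (Sum.inl 1) = 0) :
    ∃ x y : ↥(Cfsg.Omega F ⇑(HQ (HQ (HQ (Fm a b (i + 1)))))),
      x ∈ invStab (qeΩ (HQ_nondeg _ (HQ_nondeg (Fm a b (i + 1)) (Fm_nondeg a b hab (i + 1)))))
        (psiU ψ0 (HQ (HQ (Fm a b (i + 1)))) u) ∧
      y ∈ invStab (qeΩ (HQ_nondeg _ (HQ_nondeg (Fm a b (i + 1)) (Fm_nondeg a b hab (i + 1)))))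
        (psiU ψ0 (HQ (HQ (Fm a b (i + 1)))) u) ∧
      x * y * x⁻¹ * y⁻¹ = jΩ (HQ (HQ (Fm a b (i + 1)))) (lrΩ (Fm_nondeg a b hab (i + 1))) := by
  have h3 : 3 ≤ Fintype.card (Idx (i + 1)) := by rw [card_Idx]; omega
  obtain ⟨y, y', hy, hy', hyy'⟩ := exists_perp_pair (Fm_nondeg a b hab (i + 1)) h3 (tl (tl u))
  exact exists_comm_lr (Fm_nondeg a b hab (i + 1)) ψ0 u hu1 hu2 y y' hy hy' hyy'

end

end Cfsg.Agent.Lib.Helper2.OmMin
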