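import Mathlib
import Cfsg.Prelude.Def_Characters
import Cfsg.Agent.Lib.Helper2.OmMin.Tower3
import Cfsg.Agent.Lib.Helper2.OmMin.Step7
import Cfsg.Agent.Lib.Helper2.OmMin.Base

/-!
# S2346 TOWER: the induction
-/

set_option autoImplicit false
set_option linter.unusedSectionVars false
set_option linter.unusedVariables false
set_option linter.style.haveILetI false

namespace Cfsg.Agent.Lib.Helper2.OmMin

open Matrix Cfsg Cfsg.Agent.Lib.Helper2.HypExt Cfsg.Agent.Lib.Helper2.Siegel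
open Cfsg.Agent.Lib.Helper2.LongRoot Cfsg.Agent.Lib.Helper1.SUMin Cfsg.Agent.Lib.Helper4.SLMin
open Cfsg.Agent.Lib.Helper4.SLMin.PkA Cfsg.Agent.Lib.Helper2.CDG
open Cfsg.Agent.Lib.Helper2.OrthCard
open scoped ComplexConjugate

universe u

section
variable {F : Type u} [Field F] [Fintype F] (a b : F)
variable (hab : ∀ z₁ z₂ : F, z₁ ^ 2 + a * z₁ * z₂ + b * z₂ ^ 2 = 0 → z₁ = 0 ∧ z₂ = 0)

include hab in
/-- one step of the tower: from the bounds for `Ω(Fm (i+2))` to the bound for `Ω(Fm (i+3))` -/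
theorem tower_step (ψ0 : AddChar F ℂ) (hψ0 : ψ0 ≠ 1) (i : ℕ)
    (hIH0 : IHyp (Fm_nondeg a b hab i) (dM (Fintype.card F) (i + 2)))
    (hIH1 : Full (Fm_nondeg a b hab i) (dM (Fintype.card F) (i + 2) - 1)) :
    Full (HQ_nondeg (Fm a b i) (Fm_nondeg a b hab i)) (dM (Fintype.card F) (i + 3)) := by
  have hq : 2 ≤ Fintype.card F := Fintype.one_lt_card
  have hcard : Fintype.card (Idx i) = 2 * i + 2 := card_Idx i
  have e0 : nrm (HQ (HQ (Fm a b i))) 0 = sM (Fintype.card F) (i + 2) := (nrm_Fm a b hab (i + 2)).1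
  have e1 : nrm (HQ (HQ (HQ (Fm a b i)))) 0 = sM (Fintype.card F) (i + 3) :=
    (nrm_Fm a b hab (i + 3)).1
  have hge : ∀ c : F, sM (Fintype.card F) (i + 2) ≤ nrm (HQ (HQ (Fm a b i))) c :=
    fun c => nrm_Fm_ge a b hab (i + 2) c
  have hD := dM_pos hq (i + 2) (by omega)
  have hDs := dM_lt_sM hq (i + 2) (by omega)
  have hsucc : dM (Fintype.card F) (i + 3) =
      nrm (HQ (HQ (Fm a b i))) 0 + dM (Fintype.card F) (i + 2) + 1 := by
    rw [e0]
    exact dM_succ hq (i + 2) (by omega)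
  rw [hsucc]
  refine step (Fm_nondeg a b hab i) (by omega) ψ0 hψ0 (dM (Fintype.card F) (i + 2)) hD hIH0 hIH1
    ?_ ?_ ?_ ?_
  · -- hcomm
    intro u hu0 hu1 hu2 hlt
    cases i with
    | zero => exact hcomm_zero a b hab ψ0 u hu0 hu1 hu2 hlt
    | succ i => exact hcomm_succ a b hab i ψ0 u hu1 hu2
  · -- hns
    left
    intro c hc
    rw [e0]
    exact (nrm_Fm a b hab (i + 2)).2 c hc
  · -- hnum2
    intro c c'
    have h1 := hge c
    have h2 := hge c'
    rw [e0]
    omega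
  · -- harith
    rw [e0, e1, hcard]
    have : 2 * i + 2 + 3 = 2 * (i + 2) + 1 := by ring
    rw [this]
    exact fun h => arith_minus hq (i + 2) (by omega) h

include hab in
/-- the tower: the bounds for `Ω(HQ (HQ (Fm i))) = Ω⁻_{2i+6}` -/
theorem tower (ψ0 : AddChar F ℂ) (hψ0 : ψ0 ≠ 1) (i : ℕ) :
    IHyp (Fm_nondeg a b hab i) (dM (Fintype.card F) (i + 2)) ∧
      Full (Fm_nondeg a b hab i) (dM (Fintype.card F) (i + 2) - 1) := by
  classical
  have hq : 2 ≤ Fintype.card F := Fintype.one_lt_card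
  induction i with
  | zero =>
    have hs : ∀ c : F, sM (Fintype.card F) 1 ≤ nrm (HQ (Fm a b 0)) c :=
      fun c => nrm_Fm_ge a b hab 1 c
    have hb := base_bound (Fm_nondeg a b hab 0) (aniso_univ a b hab)
      (by rw [card_Idx]) (sM (Fintype.card F) 1) hs
    have hd : dM (Fintype.card F) (0 + 2) = sM (Fintype.card F) 1 + 1 := by
      have h1 := PkNUM.dM_succ' hq 1 le_rfl
      have h0 : dM (Fintype.card F) 1 = 0 := by
        unfold dM
        simp
      rw [h0] at h1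
      exact h1
    rw [hd]
    exact ⟨hb.2, hb.1⟩
  | succ i ih =>
    have h := tower_step a b hab ψ0 hψ0 i ih.1 ih.2
    exact ⟨h.iHyp, h.mono (Nat.sub_le _ _)⟩

end

end Cfsg.Agent.Lib.Helper2.OmMin
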