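import Mathlib
import Cfsg.Prelude.Def_Characters
import Cfsg.Agent.Lib.Helper2.OmMin.Tower4
import Cfsg.Agent.Lib.Helper2.IsoReindex
import Cfsg.Agent.Lib.Helper1.CharFound7
import Cfsg.Agent.Lib.Helper1.OmMin_CONJ

/-!
# S2346: reindexing `quadFormMinus j ≅ Fm j` and the final statement
-/

set_option autoImplicit false
set_option linter.unusedSectionVars false
set_option linter.unusedVariables false
set_option linter.style.haveILetI false

namespace Cfsg.Agent.Lib.Helper2.OmMin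

open Matrix Cfsg Cfsg.Agent.Lib.Helper2.HypExt Cfsg.Agent.Lib.Helper2.Siegel
open Cfsg.Agent.Lib.Helper2.LongRoot Cfsg.Agent.Lib.Helper1.SUMin Cfsg.Agent.Lib.Helper4.SLMin
open Cfsg.Agent.Lib.Helper4.SLMin.PkA Cfsg.Agent.Lib.Helper2.CDG
open Cfsg.Agent.Lib.Helper2.OrthCard
open scoped ComplexConjugate

universe u

/-- an isomorphism of groups restricts to an isomorphism of the derived subgroups -/
noncomputable def commCongr {A B : Type*} [Group A] [Group B] (φ : A ≃* B) :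
    commutator A ≃* commutator B :=
  (φ.subgroupMap (commutator A)).trans (MulEquiv.subgroupCongr (by
    rw [commutator_def, commutator_def]
    show Subgroup.map φ.toMonoidHom ⁅(⊤ : Subgroup A), ⊤⁆ = ⁅(⊤ : Subgroup B), ⊤⁆
    rw [Subgroup.map_commutator, Subgroup.map_top_of_surjective _ φ.surjective]))

/-- the reindexing of the tower -/
def sigmaIdx : (j : ℕ) → Idx j ≃ (Fin j ⊕ Fin j) ⊕ Fin 2
  | 0 => Equiv.refl _
  | (j + 1) => (Equiv.sumCongr (Equiv.refl (Fin 2)) (sigmaIdx j)).trans (sigmaMinus j)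

section
variable {F : Type u} [Field F] (a b : F)

theorem Fm_reindex (j : ℕ) (v : (Fin j ⊕ Fin j) ⊕ Fin 2 → F) :
    Cfsg.quadFormMinus j F a b v = Fm a b j (v ∘ sigmaIdx j) := by
  induction j with
  | zero =>
    show _ = QMn 0 a b (v ∘ Equiv.refl _)
    rw [← QMn_coe]
    rfl
  | succ j ih =>
    rw [minus_reindex]
    show HQ (QMn j a b) (v ∘ sigmaMinus j) = HQ (Fm a b j) (v ∘ sigmaIdx (j + 1))
    rw [HQ_apply, HQ_apply]
    have e : tl (v ∘ sigmaIdx (j + 1)) = tl (v ∘ sigmaMinus j) ∘ sigmaIdx j := rfl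
    rw [e, ← ih, ← QMn_coe]
    rfl

variable [Fintype F]

/-- the isomorphism of the isometry groups -/
noncomputable def isoEquiv (j : ℕ) :
    ↥(Cfsg.isometryGroup F ⇑(Fm a b j)) ≃* ↥(Cfsg.isometryGroup F (Cfsg.quadFormMinus j F a b)) :=
  GUIsom.equivOfMemIff (IsoReindex.glReindex F (sigmaIdx j)) _ _
    (IsoReindex.mem_iff (sigmaIdx j) (⇑(Fm a b j)) (Cfsg.quadFormMinus j F a b) (Fm_reindex a b j))

/-- the isomorphism of the groups `Ω` -/
noncomputable def omegaEquiv (j : ℕ) :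
    ↥(Cfsg.Omega F ⇑(Fm a b j)) ≃* ↥(Cfsg.Omega F (Cfsg.quadFormMinus j F a b)) :=
  commCongr (isoEquiv a b j)

variable (hab : ∀ z₁ z₂ : F, z₁ ^ 2 + a * z₁ * z₂ + b * z₂ ^ 2 = 0 → z₁ = 0 ∧ z₂ = 0)

include hab in
theorem minus_aux (i : ℕ) (k : ℕ)
    (ρ : Representation ℂ (Cfsg.Omega F (Cfsg.quadFormMinus (i + 3) F a b)) (Fin k → ℂ))
    (hρ : ρ.IsIrreducible) (hk : 2 ≤ k) : dM (Fintype.card F) (i + 3) ≤ k := by
  -- a nontrivial additive character
  obtain ⟨ψ0, hψ01⟩ := (AddChar.exists_apply_ne_zero (α := F) (a := 1)).2 one_ne_zero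
  have hψ0 : ψ0 ≠ 1 := by
    rintro rfl
    exact hψ01 rfl
  have hfull := tower_step a b hab ψ0 hψ0 i (tower a b hab ψ0 hψ0 i).1
    (tower a b hab ψ0 hψ0 i).2
  -- transport the representation
  let ρ' : Representation ℂ ↥(Cfsg.Omega F ⇑(HQ (HQ (HQ (Fm a b i))))) (Fin k → ℂ) :=
    ρ.comp (omegaEquiv a b (i + 3)).toMonoidHom
  have hρ' : ρ'.IsIrreducible :=
    Cfsg.Agent.Lib.Helper1.isIrreducible_comp_surjective ρ hρ _ (omegaEquiv a b (i + 3)).surjective
  have hz := lr_ne_one (Fm_nondeg a b hab i) (by rw [card_Idx]; omega) ρ' hρ' hk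
  exact hfull k ρ' hρ' hz

include hab in
theorem minus_main (n : ℕ) (hn : 4 ≤ n) (k : ℕ)
    (ρ : Representation ℂ (Cfsg.Omega F (Cfsg.quadFormMinus (n - 1) F a b)) (Fin k → ℂ))
    (hρ : ρ.IsIrreducible) (hk : 2 ≤ k) :
    (Fintype.card F ^ n + 1) * (Fintype.card F ^ (n - 1) - Fintype.card F) /
      (Fintype.card F ^ 2 - 1) ≤ k := by
  have hq : 2 ≤ Fintype.card F := Fintype.one_lt_card
  obtain ⟨i, rfl⟩ : ∃ i, n = i + 4 := ⟨n - 4, by omega⟩
  rw [dM_eq hq (i + 4) (by omega)]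
  exact minus_aux a b hab i k ρ hρ hk

end

end Cfsg.Agent.Lib.Helper2.OmMin
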