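import Mathlib
import Cfsg.Prelude.Def_Characters
import Cfsg.Agent.Lib.Helper2.OmMin.Tower5

/-!
# S2345 TOWER: the family of plus-type forms `Pm j = HQ^j (QP 0)` and the reindexing
`quadFormPlus j ≅ Pm j`
-/

set_option autoImplicit false
set_option linter.unusedSectionVars false
set_option linter.unusedVariables false
set_option linter.style.haveILetI false

namespace Cfsg.Agent.Lib.Helper2.OmMin

open Matrix Cfsg Cfsg.Agent.Lib.Helper2.HypExt Cfsg.Agent.Lib.Helper2.Siegel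
open Cfsg.Agent.Lib.Helper2.LongRoot Cfsg.Agent.Lib.Helper1.SUMin Cfsg.Agent.Lib.Helper4.SLMin
open Cfsg.Agent.Lib.Helper2.CDG
open Cfsg.Agent.Lib.Helper2.OrthCard Cfsg.Agent.Lib.Helper5.QuadGlue
open scoped ComplexConjugate

universe u

/-- the index types of the plus-type tower -/
def IdxP : ℕ → Type
  | 0 => Fin 0 ⊕ Fin 0
  | (j + 1) => Fin 2 ⊕ IdxP j

instance IdxP.instFintype : (j : ℕ) → Fintype (IdxP j)
  | 0 => inferInstanceAs (Fintype (Fin 0 ⊕ Fin 0))
  | (j + 1) => letI := IdxP.instFintype j; inferInstanceAs (Fintype (Fin 2 ⊕ IdxP j))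

instance IdxP.instDecEq : (j : ℕ) → DecidableEq (IdxP j)
  | 0 => inferInstanceAs (DecidableEq (Fin 0 ⊕ Fin 0))
  | (j + 1) => letI := IdxP.instDecEq j; inferInstanceAs (DecidableEq (Fin 2 ⊕ IdxP j))

theorem card_IdxP (j : ℕ) : Fintype.card (IdxP j) = 2 * j := by
  induction j with
  | zero =>
    show Fintype.card (Fin 0 ⊕ Fin 0) = 0
    simp
  | succ j ih =>
    show Fintype.card (Fin 2 ⊕ IdxP j) = 2 * (j + 1)
    rw [Fintype.card_sum, ih, Fintype.card_fin]
    ring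

/-- the reindexing of the plus tower -/
def sigmaIdxP : (j : ℕ) → IdxP j ≃ Fin j ⊕ Fin j
  | 0 => Equiv.refl _
  | (j + 1) => (Equiv.sumCongr (Equiv.refl (Fin 2)) (sigmaIdxP j)).trans (sigmaPlus j)

section
variable (F : Type u) [Field F]

/-- the plus-type tower of quadratic forms -/
noncomputable def Pm : (j : ℕ) → QuadraticForm F (IdxP j → F)
  | 0 => QP 0 F
  | (j + 1) => HQ (Pm j)

theorem Pm_zero : Pm F 0 = QP 0 F := rfl
theorem Pm_succ (j : ℕ) : Pm F (j + 1) = HQ (Pm F j) := rfl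

theorem Pm_nondeg (j : ℕ) : (QuadraticMap.polarBilin (Pm F j)).Nondegenerate := by
  induction j with
  | zero => exact QuadStd.QP_nondeg 0
  | succ j ih => exact HQ_nondeg (Pm F j) ih

theorem Pm_reindex (j : ℕ) (v : Fin j ⊕ Fin j → F) :
    Cfsg.quadFormPlus j F v = Pm F j (v ∘ sigmaIdxP j) := by
  induction j with
  | zero =>
    show _ = QP 0 F (v ∘ Equiv.refl _)
    rw [← QuadStd.QP_coe]
    rfl
  | succ j ih =>
    rw [plus_reindex]
    show HQ (QP j F) (v ∘ sigmaPlus j) = HQ (Pm F j) (v ∘ sigmaIdxP (j + 1))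
    rw [HQ_apply, HQ_apply]
    have e : tl (v ∘ sigmaIdxP (j + 1)) = tl (v ∘ sigmaPlus j) ∘ sigmaIdxP j := rfl
    rw [e, ← ih, ← QuadStd.QP_coe]
    rfl

variable [Fintype F]

/-- the isomorphism of the isometry groups -/
noncomputable def isoEquivP (j : ℕ) :
    ↥(Cfsg.isometryGroup F ⇑(Pm F j)) ≃* ↥(Cfsg.isometryGroup F (Cfsg.quadFormPlus j F)) :=
  GUIsom.equivOfMemIff (IsoReindex.glReindex F (sigmaIdxP j)) _ _
    (IsoReindex.mem_iff (sigmaIdxP j) (⇑(Pm F j)) (Cfsg.quadFormPlus j F) (Pm_reindex F j))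

/-- the isomorphism of the groups `Ω` -/
noncomputable def omegaEquivP (j : ℕ) :
    ↥(Cfsg.Omega F ⇑(Pm F j)) ≃* ↥(Cfsg.Omega F (Cfsg.quadFormPlus j F)) :=
  commCongr (isoEquivP F j)

end

end Cfsg.Agent.Lib.Helper2.OmMin
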