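import Mathlib
import Cfsg.Prelude.Def_Characters
import Cfsg.Agent.Lib.Helper2.OmMin.PTower1
import Cfsg.Agent.Lib.Helper2.Exc6e
import Cfsg.Agent.S2332

/-!
# S2345, PK-PBASE: the base `Ω⁺_6 = Ω(Pm F 3)` from `SL_4` (S2332 and the Klein correspondence)
-/

set_option autoImplicit false
set_option linter.unusedSectionVars false
set_option linter.style.haveILetI false

namespace Cfsg.Agent.Lib.Helper2.OmMin

open Matrix Cfsg Cfsg.Agent.Lib.Helper2.HypExt Cfsg.Agent.Lib.Helper2.Siegel
open scoped ComplexConjugate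

universe u

/-- a one-dimensional representation of a perfect group is trivial -/
theorem rep_one_dim_trivial {G : Type*} [Group G] (hperf : commutator G = ⊤)
    (ρ : Representation ℂ G (Fin 1 → ℂ)) (g : G) : ρ g = 1 := by
  -- every endomorphism of a one-dimensional space is a scalar
  have hsc : ∀ f : Module.End ℂ (Fin 1 → ℂ),
      f = (f (fun _ => 1) 0) • (1 : Module.End ℂ (Fin 1 → ℂ)) := by
    intro f
    apply LinearMap.ext
    intro x
    have hx : x = x 0 • (fun _ => (1 : ℂ)) := by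
      funext i
      have : i = 0 := Subsingleton.elim _ _
      subst this
      simp
    funext i
    have hi : i = 0 := Subsingleton.elim _ _
    subst hi
    conv_lhs => rw [hx]
    rw [map_smul]
    simp [mul_comm]
  let φ : G →* ℂˣ := (Units.map (LinearMap.det : Module.End ℂ (Fin 1 → ℂ) →* ℂ)).comp ρ.asGroupHom
  have hker : commutator G ≤ φ.ker := Abelianization.commutator_subset_ker φ
  have hg : φ g = 1 := by
    have : g ∈ commutator G := by rw [hperf]; trivial
    exact hker this
  have hdet : LinearMap.det (ρ g) = 1 := by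
    have h := congrArg Units.val hg
    simpa [φ, Representation.asGroupHom_apply] using h
  rw [hsc (ρ g)] at hdet ⊢
  rw [LinearMap.det_smul] at hdet
  simp at hdet
  rw [hdet, one_smul]

section
variable {F : Type u} [Field F] [Fintype F]

/-- the Klein surjection `SL_4(F) → Ω(quadFormPlus 3 F)` -/
noncomputable def kleinΩP : Matrix.SpecialLinearGroup (Fin 4) F →*
    ↥(Cfsg.Omega F (Cfsg.quadFormPlus 3 F)) :=
  (Exc6.rho (F := F)).codRestrict (Cfsg.Omega F (Cfsg.quadFormPlus 3 F)) (by
    intro g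
    rw [← Exc6.range_rho]
    exact ⟨g, rfl⟩)

theorem kleinΩP_surjective : Function.Surjective (kleinΩP (F := F)) := by
  rintro ⟨x, hx⟩
  rw [← Exc6.range_rho] at hx
  obtain ⟨g, rfl⟩ := hx
  exact ⟨g, rfl⟩

/-- PK-PBASE -/
theorem plus_base (h3 : 3 < Fintype.card F) :
    Full (Pm_nondeg F 1) ((Fintype.card F ^ 4 - Fintype.card F) / (Fintype.card F - 1)) := by
  classical
  intro k σ hσ hz
  -- the surjection `SL_4 → Ω(Pm F 3)`
  let φ : Matrix.SpecialLinearGroup (Fin 4) F →* ↥(Cfsg.Omega F ⇑(HQ (HQ (Pm F 1)))) :=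
    (omegaEquivP F 3).symm.toMonoidHom.comp kleinΩP
  have hφ : Function.Surjective φ :=
    (omegaEquivP F 3).symm.surjective.comp kleinΩP_surjective
  have hρ' := Cfsg.Agent.Lib.Helper1.isIrreducible_comp_surjective σ hσ φ hφ
  have hk0 : k ≠ 0 := by
    haveI := hσ
    have := Cfsg.Agent.Lib.Helper1.finrank_ne_zero_of_irreducible σ
    simpa using this
  by_cases hk2 : 2 ≤ k
  · have hex : ((4 : ℕ), Fintype.card F) ≠ (3, 2) ∧ ((4 : ℕ), Fintype.card F) ≠ (3, 4) ∧
        ((4 : ℕ), Fintype.card F) ≠ (4, 2) ∧ ((4 : ℕ), Fintype.card F) ≠ (4, 3) := by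
      refine ⟨?_, ?_, ?_, ?_⟩ <;> intro h <;> simp only [Prod.mk.injEq] at h <;> omega
    exact (Cfsg.Agent.S2332.result (F := F) 4 (by norm_num) hex).1 k (σ.comp φ) hρ' hk2
  · exfalso
    have hk1 : k = 1 := by omega
    subst hk1
    obtain ⟨g, hg⟩ := hφ (lrΩ (Pm_nondeg F 1))
    have := rep_one_dim_trivial Exc6.SL4_perfect (σ.comp φ) g
    apply hz
    rw [← hg]
    exact this

end

end Cfsg.Agent.Lib.Helper2.OmMin
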