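import Mathlib
import Cfsg.Prelude.Def_Characters
import Cfsg.Agent.Lib.Helper2.OmMin.Step7

/-!
# S2345 STEP: the induction step, plus-type variant (merging built in)
-/

set_option autoImplicit false
set_option linter.unusedSectionVars false
set_option linter.style.haveILetI false

namespace Cfsg.Agent.Lib.Helper2.OmMin

open Matrix Cfsg Cfsg.Agent.Lib.Helper2.HypExt Cfsg.Agent.Lib.Helper2.Siegel
open Cfsg.Agent.Lib.Helper2.LongRoot Cfsg.Agent.Lib.Helper1.SUMin Cfsg.Agent.Lib.Helper4.SLMin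
open Cfsg.Agent.Lib.Helper4.SLMin.PkA Cfsg.Agent.Lib.Helper2.CDG
open scoped ComplexConjugate

universe u

section
variable {F : Type u} [Field F] [Fintype F] {κ : Type} [Fintype κ] [DecidableEq κ]
variable {W₄ : QuadraticForm F (κ → F)} (hW₄ : (QuadraticMap.polarBilin W₄).Nondegenerate)

theorem stepP (h2 : 2 ≤ Fintype.card κ) (ψ0 : AddChar F ℂ) (hψ0 : ψ0 ≠ 1) (D : ℕ)
    (hIH0 : IHyp hW₄ D)
    (hcomm : ∀ u : Fin 2 ⊕ (Fin 2 ⊕ κ) → F, u ≠ 0 → u (Sum.inl 1) = 0 → tl u (Sum.inl 1) = 0 →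
      HQ (HQ W₄) u = 0 →
      ∃ a b : ↥(Cfsg.Omega F ⇑(HQ (HQ (HQ W₄)))),
        a ∈ invStab (qeΩ (HQ_nondeg _ (HQ_nondeg W₄ hW₄))) (psiU ψ0 (HQ (HQ W₄)) u) ∧
        b ∈ invStab (qeΩ (HQ_nondeg _ (HQ_nondeg W₄ hW₄))) (psiU ψ0 (HQ (HQ W₄)) u) ∧
        a * b * a⁻¹ * b⁻¹ = jΩ (HQ (HQ W₄)) (lrΩ hW₄))
    (hmerge : ∃ μ : F, μ ≠ 0 ∧ μ ^ 2 ≠ 1 ∧
        ∃ (n : ↥(Cfsg.Omega F ⇑(HQ (HQ (HQ W₄))))) (r : ↥(Cfsg.isometryGroup F ⇑(HQ (HQ W₄)))),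
          ∀ w : Fin 2 ⊕ (Fin 2 ⊕ κ) → F,
            n * qeΩ (HQ_nondeg _ (HQ_nondeg W₄ hW₄)) w * n⁻¹ =
              qeΩ (HQ_nondeg _ (HQ_nondeg W₄ hW₄))
                (μ • (((r : Matrix.GeneralLinearGroup (Fin 2 ⊕ (Fin 2 ⊕ κ)) F) : Matrix _ _ F) *ᵥ w)))
    (hnum2 : ∀ c c' : F, nrm (HQ (HQ W₄)) 0 + D + 1 ≤ nrm (HQ (HQ W₄)) c + nrm (HQ (HQ W₄)) c')
    (harith : ¬ ((nrm (HQ (HQ W₄)) 0 + D) * (Fintype.card F ^ 2 - 1) ∣
      nrm (HQ (HQ (HQ W₄))) 0 * nrm (HQ (HQ W₄)) 0 * Fintype.card F ^ (Fintype.card κ + 3))) :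
    Full (HQ_nondeg W₄ hW₄) (nrm (HQ (HQ W₄)) 0 + D + 1) := by
  classical
  intro k ρ hρ hz
  haveI : Fintype ↥(Cfsg.Omega F ⇑(HQ (HQ (HQ W₄)))) := Fintype.ofFinite _
  haveI : Fintype ↥(Cfsg.Omega F ⇑(HQ (HQ W₄))) := Fintype.ofFinite _
  have h1 : 1 ≤ Fintype.card κ := by omega
  have h3 : 3 ≤ Fintype.card (Fin 2 ⊕ (Fin 2 ⊕ κ)) := by
    simp only [Fintype.card_sum, Fintype.card_fin]; omega
  have hχ : IsCharacter ↥(Cfsg.Omega F ⇑(HQ (HQ (HQ W₄)))) ρ.character := ⟨k, ρ, rfl⟩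
  have hcf := Cfsg.Agent.Lib.Helper4.isClassFunction_of_isCharacter hχ
  obtain ⟨t, d, ht, hd, hdeg, hlev⟩ := exists_mult hW₄ h1 ψ0 hψ0 hχ
  have hχ1 : ρ.character 1 = (k : ℂ) := by
    rw [Representation.char_one]; simp
  have hdegN : k = t + ∑ c, d c * nrm (HQ (HQ W₄)) c := by
    rw [hχ1] at hdeg
    exact_mod_cast hdeg
  have hLcast : (∑ c : F, (d c : ℂ)) = ((∑ c : F, d c : ℕ) : ℂ) := by push_cast; rfl
  rcases (show (∑ c : F, d c) = 0 ∨ (∑ c : F, d c) = 1 ∨ 2 ≤ ∑ c : F, d c by omega) with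
    hL0 | hL1 | hL2
  · -- level 0: the long root element acts trivially
    exfalso
    rw [hLcast, hL0, Nat.cast_zero, zero_mul, sub_eq_zero] at hlev
    have hk : ρ.character (lrΩ (HQ_nondeg W₄ hW₄)) =
        (Module.finrank ℂ (Fin k → ℂ) : ℂ) := by
      rw [← hlev, hχ1]; simp
    exact hz ((Cfsg.Agent.S0139.result ρ _).1 hk)
  · -- level 1
    obtain ⟨c₀, hd1, hd0, hsum⟩ := st_one_class d (nrm (HQ (HQ W₄))) hL1
    rw [hsum] at hdegN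
    by_contra hlt
    rw [not_le] at hlt
    rw [hLcast, hL1, Nat.cast_one, one_mul] at hlev
    have hm1 : ∀ u : Fin 2 ⊕ (Fin 2 ⊕ κ) → F, u ≠ 0 → HQ (HQ W₄) u = c₀ →
        isoAvg (qeΩ (HQ_nondeg _ (HQ_nondeg W₄ hW₄))) (psiU ψ0 (HQ (HQ W₄)) u) ρ.character 1 = 1 := by
      intro u hu hc
      rw [hd u hu, hc, hd1, Nat.cast_one]
    have hm0 : ∀ u : Fin 2 ⊕ (Fin 2 ⊕ κ) → F, u ≠ 0 → HQ (HQ W₄) u ≠ c₀ →
        isoAvg (qeΩ (HQ_nondeg _ (HQ_nondeg W₄ hW₄))) (psiU ψ0 (HQ (HQ W₄)) u) ρ.character 1 = 0 := by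
      intro u hu hc
      rw [hd u hu, hd0 _ hc, Nat.cast_zero]
    have hint2 := st_integral hW₄ h1 ρ hρ (Fintype.card κ + 3) hlev
    suffices hsuff : nrm (HQ (HQ W₄)) 0 + D ≤ k by
      have hk : k = nrm (HQ (HQ W₄)) 0 + D := by omega
      rw [hk] at hint2
      exact harith hint2
    -- the class is the singular one (merging)
    have hc0 : c₀ = 0 := by
      by_contra hc0
      obtain ⟨μ, hμ0, hμ1, n, r, hn⟩ := hmerge
      have hr := st_scale_mult hW₄ ψ0 μ hμ0 hcf n r hn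
      have hu0 : (mk3 1 c₀ 0 : Fin 2 ⊕ (Fin 2 ⊕ κ) → F) ≠ 0 := by
        intro h
        have := congrFun h (Sum.inl 0)
        simp at this
      have huQ : HQ (HQ W₄) (mk3 1 c₀ 0 : Fin 2 ⊕ (Fin 2 ⊕ κ) → F) = c₀ := by
        rw [HQ_e, one_mul]
      have h := hr (mk3 1 c₀ 0)
      rw [hd _ hu0, hd _ (st_mv_ne_zero μ hμ0 r _ hu0), st_Q_mv, huQ, hd1] at h
      have h0 : d (μ * μ * c₀) = 0 := by
        apply hd0
        intro he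
        apply hμ1
        have : (μ ^ 2 - 1) * c₀ = 0 := by rw [sub_mul, one_mul, sub_eq_zero, pow_two]; exact he
        rcases mul_eq_zero.1 this with h' | h'
        · exact sub_eq_zero.1 h'
        · exact absurd h' hc0
      rw [h0] at h
      simp at h
    subst hc0
    have hfc := fixed_char_lr hW₄ h1 ψ0 hψ0 hχ 0 hm1 hm0 hcomm
    have hkC : (k : ℂ) = (t : ℂ) + (nrm (HQ (HQ W₄)) 0 : ℂ) := by exact_mod_cast hdegN
    have hne : isoAvg (qeΩ (HQ_nondeg _ (HQ_nondeg W₄ hW₄))) (1 : AddChar _ ℂ) ρ.character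
        (jΩ (HQ (HQ W₄)) (lrΩ hW₄)) ≠
        isoAvg (qeΩ (HQ_nondeg _ (HQ_nondeg W₄ hW₄))) (1 : AddChar _ ℂ) ρ.character 1 := by
      rw [hfc, ht]
      intro h
      rw [hχ1] at hlev
      have hq : (Fintype.card F : ℂ) ^ (Fintype.card κ + 1) = 0 := by
        linear_combination (-1 : ℂ) * h - hlev + hkC
      exact pow_ne_zero _ (Nat.cast_ne_zero.2 Fintype.card_ne_zero) hq
    obtain ⟨x, hxfix, hxmoved⟩ := exists_moved ρ (qeΩ (HQ_nondeg _ (HQ_nondeg W₄ hW₄)))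
      (qeΩ_add _ h3) (jΩ (HQ (HQ W₄)) (lrΩ hW₄)) hne
    obtain ⟨Y, hYX, hY0, hYst, k', σ, φ, hσ, hk', hσz, hint⟩ :=
      exists_irr_sub
        ((ρ.comp (jΩ (HQ (HQ W₄))) :
          Representation ℂ ↥(Cfsg.Omega F ⇑(HQ (HQ W₄))) (Fin k → ℂ)))
        (fixSub hW₄ ρ) (fun g x hx => fixSub_stable hW₄ h1 ρ g x hx) (lrΩ hW₄) x
        ((mem_fixSub hW₄ ρ x).2 hxfix) hxmoved
    have hfin : (Module.finrank ℂ (fixSub hW₄ ρ) : ℂ) = (t : ℂ) := by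
      rw [finrank_fixed ρ (qeΩ (HQ_nondeg _ (HQ_nondeg W₄ hW₄))) (qeΩ_add _ h3) (fixSub hW₄ ρ)
        (mem_fixSub hW₄ ρ), ← ht, AddChar.coe_one]
    have hk't : k' ≤ t := by
      have : Module.finrank ℂ (fixSub hW₄ ρ) = t := by exact_mod_cast hfin
      omega
    obtain ⟨y, hyY, hy0, hyfix⟩ := st_opp hW₄ h1 ψ0 hψ0 ρ hρ hz hm1 hm0 Y hY0
      (fun y hy w => hYX hy w) (fun g y hy => hYst g y hy)
    have hDk : D ≤ k' := by
      apply hIH0 k' σ hσ hσz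
      refine ⟨φ ⟨y, hyY⟩, ?_, ?_⟩
      · intro h
        apply hy0
        have := φ.map_eq_zero_iff.1 h
        exact congrArg Subtype.val this
      · intro y₂
        have h := hint (qeΩ (HQ_nondeg W₄ hW₄) y₂) ⟨y, hyY⟩
        have h2 : φ.symm (σ (qeΩ (HQ_nondeg W₄ hW₄) y₂) (φ ⟨y, hyY⟩)) = ⟨y, hyY⟩ :=
          Subtype.ext (by rw [h]; exact hyfix y₂)
        apply φ.symm.injective
        rw [h2, LinearEquiv.symm_apply_apply]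
    omega
  · -- level ≥ 2
    obtain ⟨c, c', hcc'⟩ := st_two_classes d (nrm (HQ (HQ W₄))) hL2
    have := hnum2 c c'
    omega

end

end Cfsg.Agent.Lib.Helper2.OmMin
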