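import Mathlib
import Cfsg.Prelude.Def_Characters
import Cfsg.Agent.Lib.Helper2.OmMin.PTower1
import Cfsg.Agent.Lib.Helper2.OmMin.StepP
import Cfsg.Agent.Lib.Helper1.OmMin_MERGE
import Cfsg.Agent.Lib.Helper1.OmMin_PNUM
import Cfsg.Agent.Lib.Helper1.OmMin_FIRST
import Cfsg.Agent.Lib.Helper2.OmMin.PBase

/-!
# S2345 TOWER: norm classes, the commutator hypothesis, the induction and the final statement
-/

set_option autoImplicit false
set_option linter.unusedSectionVars false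
set_option linter.unusedVariables false
set_option linter.style.haveILetI false

namespace Cfsg.Agent.Lib.Helper2.OmMin

open Matrix Cfsg Cfsg.Agent.Lib.Helper2.HypExt Cfsg.Agent.Lib.Helper2.Siegel
open Cfsg.Agent.Lib.Helper2.LongRoot Cfsg.Agent.Lib.Helper1.SUMin Cfsg.Agent.Lib.Helper4.SLMin
open Cfsg.Agent.Lib.Helper2.CDG
open Cfsg.Agent.Lib.Helper2.OrthCard Cfsg.Agent.Lib.Helper5.QuadGlue
open scoped ComplexConjugate

universe u

section
variable (F : Type u) [Field F] [Fintype F]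

theorem nrm_Pm (j : ℕ) : nrm (Pm F j) 0 = sP (Fintype.card F) j ∧
    ∀ c : F, c ≠ 0 → nrm (Pm F j) c = nP (Fintype.card F) j := by
  classical
  have hq : 2 ≤ Fintype.card F := Fintype.one_lt_card
  induction j with
  | zero =>
    have hemp : ∀ c : F, nrm (Pm F 0) c = 0 := by
      intro c
      unfold nrm
      haveI : IsEmpty {v : IdxP 0 → F // v ≠ 0 ∧ Pm F 0 v = c} := by
        refine ⟨fun v => v.2.1 ?_⟩
        funext i
        exact (IsEmpty.false (α := Fin 0 ⊕ Fin 0) i).elim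
      exact Nat.card_of_isEmpty
    exact ⟨by rw [hemp, sP_zero], fun c _ => by rw [hemp, nP_zero]⟩
  | succ j ih =>
    constructor
    · show nrm (HQ (Pm F j)) 0 = _
      rw [nrm_HQ, if_pos rfl, ih.1, card_IdxP, sP_succ hq]
    · intro c hc
      show nrm (HQ (Pm F j)) c = _
      rw [nrm_HQ, if_neg hc, ih.2 c hc, card_IdxP, nP_succ hq, add_zero]

theorem nrm_Pm_ge (j : ℕ) (c : F) : nP (Fintype.card F) j ≤ nrm (Pm F j) c := by
  have hq : 2 ≤ Fintype.card F := Fintype.one_lt_card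
  by_cases hc : c = 0
  · subst hc
    rw [(nrm_Pm F j).1]
    exact nP_le_sP hq j
  · rw [(nrm_Pm F j).2 c hc]

/-- a field with more than three elements has a nonzero element whose square is not `1` -/
theorem exists_sq_ne_one (h3 : 3 < Fintype.card F) : ∃ μ : F, μ ≠ 0 ∧ μ ^ 2 ≠ 1 := by
  classical
  by_contra hcon
  push Not at hcon
  have hsub : (Finset.univ : Finset F) ⊆ {0, 1, -1} := by
    intro x _
    by_cases hx : x = 0
    · simp [hx]
    · have h1 := hcon x hx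
      have h2 : (x - 1) * (x + 1) = 0 := by ring_nf; rw [h1]; ring
      rcases mul_eq_zero.1 h2 with h | h
      · have : x = 1 := sub_eq_zero.1 h
        simp [this]
      · have : x = -1 := eq_neg_of_add_eq_zero_left h
        simp [this]
  have hcard := Finset.card_le_card hsub
  rw [Finset.card_univ] at hcard
  have h3' : ({0, 1, -1} : Finset F).card ≤ 3 := Finset.card_le_three
  omega

/-- the commutator hypothesis of the plus-type step (singular classes only) -/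
theorem hcomm_plus (i : ℕ) (hi : 1 ≤ i) (ψ0 : AddChar F ℂ) (μ : F) (hμ0 : μ ≠ 0) (hμ1 : μ ^ 2 ≠ 1)
    (u : Fin 2 ⊕ (Fin 2 ⊕ IdxP i) → F)
    (hu1 : u (Sum.inl 1) = 0) (hu2 : tl u (Sum.inl 1) = 0) (hQ : HQ (HQ (Pm F i)) u = 0) :
    ∃ x y : ↥(Cfsg.Omega F ⇑(HQ (HQ (HQ (Pm F i))))),
      x ∈ invStab (qeΩ (HQ_nondeg _ (HQ_nondeg (Pm F i) (Pm_nondeg F i))))
        (psiU ψ0 (HQ (HQ (Pm F i))) u) ∧
      y ∈ invStab (qeΩ (HQ_nondeg _ (HQ_nondeg (Pm F i) (Pm_nondeg F i))))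
        (psiU ψ0 (HQ (HQ (Pm F i))) u) ∧
      x * y * x⁻¹ * y⁻¹ = jΩ (HQ (HQ (Pm F i))) (lrΩ (Pm_nondeg F i)) := by
  have hc : 1 ≤ Fintype.card (IdxP i) := by rw [card_IdxP]; omega
  rw [HQHQ_of_zero _ u hu1 hu2] at hQ
  by_cases hu4 : tl (tl u) = 0
  · obtain ⟨y, y', hyy'⟩ := exists_pair (Pm_nondeg F i) hc
    refine exists_comm_lr (Pm_nondeg F i) ψ0 u hu1 hu2 y y' ?_ ?_ hyy'
    · rw [hu4]; simp [QuadraticMap.polar]
    · rw [hu4]; simp [QuadraticMap.polar]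
  · exact exists_comm_lr_sing (Pm_nondeg F i) ψ0 μ hμ0 hμ1 u hu1 hu2 hu4 hQ

/-- one step of the plus tower -/
theorem ptower_step (h3 : 3 < Fintype.card F) (ψ0 : AddChar F ℂ) (hψ0 : ψ0 ≠ 1) (i : ℕ) (hi : 1 ≤ i)
    (hIH : Full (Pm_nondeg F i) (dP (Fintype.card F) (i + 2))) :
    Full (HQ_nondeg (Pm F i) (Pm_nondeg F i)) (dP (Fintype.card F) (i + 3)) := by
  have hq : 2 ≤ Fintype.card F := Fintype.one_lt_card
  have hcard : Fintype.card (IdxP i) = 2 * i := card_IdxP i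
  have e0 : nrm (HQ (HQ (Pm F i))) 0 = sP (Fintype.card F) (i + 2) := (nrm_Pm F (i + 2)).1
  have e1 : nrm (HQ (HQ (HQ (Pm F i)))) 0 = sP (Fintype.card F) (i + 3) := (nrm_Pm F (i + 3)).1
  have hge : ∀ c : F, nP (Fintype.card F) (i + 2) ≤ nrm (HQ (HQ (Pm F i))) c :=
    fun c => nrm_Pm_ge F (i + 2) c
  have hsucc : dP (Fintype.card F) (i + 3) =
      nrm (HQ (HQ (Pm F i))) 0 + dP (Fintype.card F) (i + 2) + 1 := by
    rw [e0]
    exact dP_succ hq (i + 2) (by omega)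
  obtain ⟨μ, hμ0, hμ1⟩ := exists_sq_ne_one F h3
  have h1' : 1 ≤ Fintype.card (Fin 2 ⊕ IdxP i) := by
    simp only [Fintype.card_sum, Fintype.card_fin]; omega
  obtain ⟨n, r, hn⟩ := exists_scale (HQ_nondeg (Pm F i) (Pm_nondeg F i)) h1' μ hμ0
  rw [hsucc]
  refine stepP (Pm_nondeg F i) (by omega) ψ0 hψ0 (dP (Fintype.card F) (i + 2)) hIH.iHyp
    ?_ ⟨μ, hμ0, hμ1, n, r, hn⟩ ?_ ?_
  · intro u _ hu1 hu2 hQ
    exact hcomm_plus F i hi ψ0 μ hμ0 hμ1 u hu1 hu2 hQ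
  · intro c c'
    have h1 := hge c
    have h2 := hge c'
    have h3 := num2_plus hq (i + 2) (by omega)
    rw [e0]
    omega
  · rw [e0, e1, hcard]
    exact fun h => arith_plus hq i hi h

/-- the plus tower: the bound for `Ω(HQ (HQ (Pm i))) = Ω⁺_{2i+4}`, `i ≥ 1` -/
theorem ptower (h3 : 3 < Fintype.card F) (ψ0 : AddChar F ℂ) (hψ0 : ψ0 ≠ 1) (i : ℕ) (hi : 1 ≤ i) :
    Full (Pm_nondeg F i) (dP (Fintype.card F) (i + 2)) := by
  have hq : 2 ≤ Fintype.card F := Fintype.one_lt_card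
  induction i, hi using Nat.le_induction with
  | base =>
    rw [show (1 + 2 : ℕ) = 3 from rfl, dP_three hq]
    exact plus_base h3
  | succ i hi ih => exact ptower_step F h3 ψ0 hψ0 i hi ih

theorem plus_aux (h3 : 3 < Fintype.card F) (i : ℕ) (hi : 1 ≤ i) (k : ℕ)
    (ρ : Representation ℂ (Cfsg.Omega F (Cfsg.quadFormPlus (i + 3) F)) (Fin k → ℂ))
    (hρ : ρ.IsIrreducible) (hk : 2 ≤ k) : dP (Fintype.card F) (i + 3) ≤ k := by
  obtain ⟨ψ0, hψ01⟩ := (AddChar.exists_apply_ne_zero (α := F) (a := 1)).2 one_ne_zero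
  have hψ0 : ψ0 ≠ 1 := by
    rintro rfl
    exact hψ01 rfl
  have hfull := ptower_step F h3 ψ0 hψ0 i hi (ptower F h3 ψ0 hψ0 i hi)
  let ρ' : Representation ℂ ↥(Cfsg.Omega F ⇑(HQ (HQ (HQ (Pm F i))))) (Fin k → ℂ) :=
    ρ.comp (omegaEquivP F (i + 3)).toMonoidHom
  have hρ' : ρ'.IsIrreducible :=
    Cfsg.Agent.Lib.Helper1.isIrreducible_comp_surjective ρ hρ _ (omegaEquivP F (i + 3)).surjective
  have hz := lr_ne_one (Pm_nondeg F i) (by rw [card_IdxP]; omega) ρ' hρ' hk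
  exact hfull k ρ' hρ' hz

theorem plus_main (n : ℕ) (hn : 4 ≤ n) (h3 : 3 < Fintype.card F) (k : ℕ)
    (ρ : Representation ℂ (Cfsg.Omega F (Cfsg.quadFormPlus n F)) (Fin k → ℂ))
    (hρ : ρ.IsIrreducible) (hk : 2 ≤ k) :
    (Fintype.card F ^ n - 1) * (Fintype.card F ^ (n - 1) + Fintype.card F) /
      (Fintype.card F ^ 2 - 1) ≤ k := by
  obtain ⟨i, rfl⟩ : ∃ i, n = i + 3 := ⟨n - 3, by omega⟩
  exact plus_aux F h3 i (by omega) k ρ hρ hk

end

end Cfsg.Agent.Lib.Helper2.OmMin
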